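import Cfsg.Agent.Lib.Helper53.Zas.Hyp
import Cfsg.Agent.Lib.Helper25.CNSolvable

/-!
# Basic consequences of the abstract hypotheses `ZHyp`
-/

set_option autoImplicit false
set_option linter.style.haveILetI false
set_option linter.unusedSectionVars false
set_option linter.unusedSimpArgs false

namespace Cfsg.Agent.Lib.Helper53.Zas

variable {G : Type*} [Group G]

theorem ZHyp.key0 (h : ZHyp G) (B : Subgroup G) (hB : IsMulCommutative B) : IsCyclic B :=
  h.cyc B (fun a ha b hb => congrArg Subtype.val (hB.is_comm.comm ⟨a, ha⟩ ⟨b, hb⟩))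

theorem ZHyp.key0_sub (h : ZHyp G) (M : Subgroup G) (B : Subgroup M) (hB : IsMulCommutative B) :
    IsCyclic B := by
  have h1 : IsCyclic (B.map M.subtype : Subgroup G) := h.key0 _ inferInstance
  let e1 := B.equivMapOfInjective M.subtype (Subgroup.subtype_injective _)
  exact isCyclic_of_injective e1.toMonoidHom e1.injective

theorem closure_pair_comm {x y : G} (hc : x * y = y * x) :
    ∀ a ∈ Subgroup.closure {x, y}, ∀ b ∈ Subgroup.closure {x, y}, a * b = b * a := by
  intro a ha b hb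
  have := Subgroup.isMulCommutative_closure (k := {x, y}) (by
    intro u hu v hv
    rcases hu with rfl | rfl <;> rcases hv with rfl | rfl <;> first | rfl | exact hc | exact hc.symm)
  exact congrArg Subtype.val (this.is_comm.comm (⟨a, ha⟩ : Subgroup.closure {x, y}) ⟨b, hb⟩)

/-- two commuting elements lie in a common cyclic subgroup -/
theorem ZHyp.exists_gen (h : ZHyp G) {x y : G} (hc : x * y = y * x) :
    ∃ g : G, g ∈ Subgroup.closure {x, y} ∧ x ∈ Subgroup.zpowers g ∧ y ∈ Subgroup.zpowers g := by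
  have hcyc := h.cyc _ (closure_pair_comm hc)
  obtain ⟨g, hg⟩ := hcyc.exists_generator
  refine ⟨g, g.2, ?_, ?_⟩
  · obtain ⟨k, hk⟩ := Subgroup.mem_zpowers_iff.1
      (hg ⟨x, Subgroup.subset_closure (by simp)⟩)
    exact Subgroup.mem_zpowers_iff.2 ⟨k, by simpa using congrArg Subtype.val hk⟩
  · obtain ⟨k, hk⟩ := Subgroup.mem_zpowers_iff.1
      (hg ⟨y, Subgroup.subset_closure (by simp)⟩)
    exact Subgroup.mem_zpowers_iff.2 ⟨k, by simpa using congrArg Subtype.val hk⟩

/-- in a cyclic group, an element whose order divides the order of `x` is a power of `x` -/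
theorem mem_zpowers_of_orderOf_dvd [Finite G] {g x y : G} (hx : x ∈ Subgroup.zpowers g)
    (hy : y ∈ Subgroup.zpowers g) (hd : orderOf y ∣ orderOf x) : y ∈ Subgroup.zpowers x := by
  classical
  -- the subgroup of `zpowers g` of elements killed by `n`
  set n := orderOf x with hn
  have hn0 : 0 < n := orderOf_pos x
  let K : Subgroup G :=
    { carrier := {a | a ∈ Subgroup.zpowers g ∧ a ^ n = 1}
      one_mem' := ⟨one_mem _, one_pow _⟩
      mul_mem' := by
        rintro a b ⟨ha, ha'⟩ ⟨hb, hb'⟩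
        refine ⟨mul_mem ha hb, ?_⟩
        obtain ⟨k, rfl⟩ := Subgroup.mem_zpowers_iff.1 ha
        obtain ⟨l, rfl⟩ := Subgroup.mem_zpowers_iff.1 hb
        have : Commute (g ^ k) (g ^ l) := (Commute.refl g).zpow_zpow k l
        rw [this.mul_pow, ha', hb', one_mul]
      inv_mem' := by
        rintro a ⟨ha, ha'⟩
        exact ⟨inv_mem ha, by rw [inv_pow, ha', inv_one]⟩ }
  have hKle : K ≤ Subgroup.zpowers g := fun a ha => ha.1
  have hxK : Subgroup.zpowers x ≤ K := by
    rw [Subgroup.zpowers_le]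
    exact ⟨hx, pow_orderOf_eq_one x⟩
  have hKc : IsCyclic K := by
    have : IsCyclic (K.subgroupOf (Subgroup.zpowers g)) := inferInstance
    exact (Subgroup.subgroupOfEquivOfLe hKle).isCyclic.1 this
  have hexp : Monoid.exponent K ∣ n := by
    apply Monoid.exponent_dvd_of_forall_pow_eq_one
    intro a
    exact Subtype.ext (by simpa using a.2.2)
  rw [IsCyclic.exponent_eq_card] at hexp
  have hle : Nat.card K ≤ Nat.card (Subgroup.zpowers x) := by
    rw [Nat.card_zpowers]
    exact Nat.le_of_dvd hn0 hexp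
  have heq := Subgroup.eq_of_le_of_card_ge hxK hle
  rw [heq]
  exact ⟨hy, orderOf_dvd_iff_pow_eq_one.1 hd⟩

theorem ZHyp.mem_zpowers [Finite G] (h : ZHyp G) {x y : G} (hd : orderOf y ∣ orderOf x)
    (hc : x * y = y * x) : y ∈ Subgroup.zpowers x := by
  obtain ⟨g, -, hx, hy⟩ := h.exists_gen hc
  exact mem_zpowers_of_orderOf_dvd hx hy hd

/-- an involution is central -/
theorem ZHyp.central (h : ZHyp G) {z : G} (hz : orderOf z = 2) (g : G) : g * z = z * g := by
  have h1 : orderOf (g * z * g⁻¹) = 2 := by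
    rw [← hz]
    exact orderOf_injective (MulAut.conj g).toMonoidHom (MulAut.conj g).injective z
  have := h.inv_unique _ _ h1 hz
  nth_rewrite 2 [← this]
  group

theorem ZHyp.eq_of_sq (h : ZHyp G) {z s : G} (hz : orderOf z = 2) (hs : s ^ 2 = 1) (hs1 : s ≠ 1) :
    s = z :=
  h.inv_unique _ _ (orderOf_eq_prime hs hs1) hz

namespace TD

variable {i j d : G}

theorem orderOf_z (T : TD i j d) : orderOf (i ^ 2) = 2 := by
  apply orderOf_eq_prime _ T.i2
  rw [← pow_mul]
  exact T.i4

theorem orderOf_i (T : TD i j d) : orderOf i = 4 := by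
  have h1 : orderOf i ∣ 2 ^ 2 := orderOf_dvd_of_pow_eq_one T.i4
  rw [Nat.dvd_prime_pow Nat.prime_two] at h1
  obtain ⟨k, hk, hk'⟩ := h1
  interval_cases k
  · exfalso
    apply T.i2
    rw [pow_zero, orderOf_eq_one_iff] at hk'
    rw [hk', one_pow]
  · exfalso
    apply T.i2
    rw [pow_one] at hk'
    rw [← hk', pow_orderOf_eq_one]
  · exact hk'

theorem j4 (T : TD i j d) : j ^ 4 = 1 := by
  have : j ^ 4 = (j ^ 2) ^ 2 := by rw [← pow_mul]
  rw [this, T.j2, ← pow_mul]
  exact T.i4

theorem inv_i (T : TD i j d) : i⁻¹ = i ^ 3 := by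
  rw [inv_eq_iff_mul_eq_one, ← pow_succ']
  exact T.i4

theorem ji (T : TD i j d) : j * i = i⁻¹ * j := by
  rw [← T.inv]
  group

theorem ne_comm (T : TD i j d) : i * j ≠ j * i := by
  intro h
  apply T.i2
  have h1 := T.inv
  rw [← h, mul_inv_cancel_right] at h1
  rw [pow_two]
  nth_rewrite 1 [h1]
  exact inv_mul_cancel i

theorem conj (T : TD i j d) (g : G) : TD (g * i * g⁻¹) (g * j * g⁻¹) (g * d * g⁻¹) where
  i4 := by rw [conj_pow, T.i4]; group
  i2 := by
    rw [conj_pow]
    intro h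
    apply T.i2
    have : i ^ 2 = g⁻¹ * (g * i ^ 2 * g⁻¹) * g := by group
    rw [this, h]
    group
  j2 := by rw [conj_pow, conj_pow, T.j2]
  inv := by
    have : g * j * g⁻¹ * (g * i * g⁻¹) * (g * j * g⁻¹)⁻¹ = g * (j * i * j⁻¹) * g⁻¹ := by group
    rw [this, T.inv]
    group
  d3 := by rw [conj_pow, T.d3]; group
  di := by
    have : g * d * g⁻¹ * (g * i * g⁻¹) * (g * d * g⁻¹)⁻¹ = g * (d * i * d⁻¹) * g⁻¹ := by group
    rw [this, T.di]
  dj := by
    have : g * d * g⁻¹ * (g * j * g⁻¹) * (g * d * g⁻¹)⁻¹ = g * (d * j * d⁻¹) * g⁻¹ := by group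
    rw [this, T.dj]
    group

theorem ij_sq (T : TD i j d) : (i * j) ^ 2 = i ^ 2 := by
  have : (i * j) ^ 2 = i * (j * i) * j := by rw [pow_two]; group
  rw [this, T.ji, ← T.j2, pow_two]
  group

theorem rot (T : TD i j d) : TD j (i * j) d where
  i4 := T.j4
  i2 := by rw [T.j2]; exact T.i2
  j2 := by rw [T.ij_sq, T.j2]
  inv := by
    have h1 : i * j * j * (i * j)⁻¹ = i * j * i⁻¹ := by group
    rw [h1]
    have h2 : i * j = j * i⁻¹ := by
      have := T.ji
      calc i * j = i * (j * i) * i⁻¹ := by group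
        _ = i * (i⁻¹ * j) * i⁻¹ := by rw [this]
        _ = j * i⁻¹ := by group
    rw [h2]
    have h3 : j * i⁻¹ * i⁻¹ = j * (i ^ 2)⁻¹ := by group
    rw [h3, ← T.j2]
    group
  d3 := T.d3
  di := T.dj
  dj := by
    have : d * (i * j) * d⁻¹ = (d * i * d⁻¹) * (d * j * d⁻¹) := by group
    rw [this, T.di, T.dj]

theorem j_ij (T : TD i j d) : j * (i * j) = i := by
  rw [← mul_assoc, T.ji, mul_assoc, ← pow_two, T.j2, pow_two]
  group

theorem rot2 (T : TD i j d) : TD (i * j) i d := by
  have := T.rot.rot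
  rwa [T.j_ij] at this

theorem map {H : Type*} [Group H] (f : G →* H) (hf : Function.Injective f) (T : TD i j d) :
    TD (f i) (f j) (f d) where
  i4 := by rw [← map_pow, T.i4, map_one]
  i2 := by
    rw [← map_pow]
    intro h
    exact T.i2 (hf (by rw [h, map_one]))
  j2 := by rw [← map_pow, ← map_pow, T.j2]
  inv := by rw [← map_inv, ← map_inv, ← map_mul, ← map_mul, T.inv]
  d3 := by rw [← map_pow, T.d3, map_one]
  di := by rw [← map_inv, ← map_mul, ← map_mul, T.di]
  dj := by rw [← map_inv, ← map_mul, ← map_mul, T.dj, map_mul]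

end TD

end Cfsg.Agent.Lib.Helper53.Zas
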