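import Cfsg.Agent.Lib.Helper53.Zas.LemmaQ

/-!
# Normal forms in the generalized quaternion group of order sixteen, and the Sylow 2-subgroup
-/

set_option autoImplicit false
set_option linter.style.haveILetI false
set_option linter.unusedSectionVars false
set_option linter.unusedSimpArgs false

namespace Cfsg.Agent.Lib.Helper53.Zas

open Subgroup

variable {G : Type*} [Group G] {i j d α : G}

/-- `α` has order eight, `j` inverts it and `j² = α⁴` -/
structure QD (α j : G) : Prop where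
  a8 : α ^ 8 = 1
  a4 : α ^ 4 ≠ 1
  j2 : j ^ 2 = α ^ 4
  inv : j * α * j⁻¹ = α⁻¹

theorem TD.qd (T : TD i j d) (hα : α ^ 2 = i) (hαj : j * α * j⁻¹ = α⁻¹) : QD α j where
  a8 := by rw [show 8 = 2 * 4 from rfl, pow_mul, hα, T.i4]
  a4 := by rw [show 4 = 2 * 2 from rfl, pow_mul, hα]; exact T.i2
  j2 := by rw [T.j2, ← hα, ← pow_mul]
  inv := hαj

/-- normal form with parity -/
def NF (α j : G) (ε : ℕ) (x : G) : Prop :=
  ∃ m : ℕ, m % 2 = ε % 2 ∧ (x = α ^ m ∨ x = α ^ m * j)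

namespace QD

theorem inv_pow (Q : QD α j) (m : ℕ) : (α ^ m)⁻¹ = α ^ (7 * m) := by
  apply inv_eq_of_mul_eq_one_right
  rw [← pow_add, show m + 7 * m = 8 * m by ring, pow_mul, Q.a8, one_pow]

theorem j_pow (Q : QD α j) (m : ℕ) : j * α ^ m = α ^ (7 * m) * j := by
  have h1 : j * α ^ m * j⁻¹ = (α ^ m)⁻¹ := by rw [← conj_pow, Q.inv, _root_.inv_pow]
  rw [← Q.inv_pow, ← h1]
  group

theorem orderOf_a (Q : QD α j) : orderOf α = 8 :=
  orderOf_eq_prime_pow (p := 2) (n := 2) Q.a4 Q.a8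

theorem mul (Q : QD α j) {ε ε' : ℕ} {x y : G} (hx : NF α j ε x) (hy : NF α j ε' y) :
    NF α j (ε + ε') (x * y) := by
  obtain ⟨a, ha, rfl | rfl⟩ := hx <;> obtain ⟨b, hb, rfl | rfl⟩ := hy
  · exact ⟨a + b, by omega, Or.inl (pow_add _ _ _).symm⟩
  · exact ⟨a + b, by omega, Or.inr (by rw [pow_add, mul_assoc])⟩
  · refine ⟨a + 7 * b, by omega, Or.inr ?_⟩
    rw [mul_assoc, Q.j_pow, pow_add, mul_assoc]
  · refine ⟨a + 7 * b + 4, by omega, Or.inl ?_⟩
    rw [mul_assoc, ← mul_assoc j, Q.j_pow, pow_add, pow_add, ← Q.j2, pow_two]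
    simp only [mul_assoc]

theorem sq_aj (Q : QD α j) (m : ℕ) : (α ^ m * j) ^ 2 = α ^ 4 := by
  rw [pow_two, mul_assoc, ← mul_assoc j, Q.j_pow, mul_assoc, ← pow_two, Q.j2, ← mul_assoc,
    ← pow_add, show m + 7 * m = 8 * m by ring, pow_mul, Q.a8, one_pow, one_mul]

theorem inv' (Q : QD α j) {ε : ℕ} {x : G} (hx : NF α j ε x) : NF α j ε x⁻¹ := by
  obtain ⟨a, ha, rfl | rfl⟩ := hx
  · exact ⟨7 * a, by omega, Or.inl (Q.inv_pow a)⟩
  · refine ⟨a + 4, by omega, Or.inr ?_⟩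
    apply inv_eq_of_mul_eq_one_right
    have h1 : α ^ (a + 4) * j = α ^ 4 * (α ^ a * j) := by
      rw [add_comm, pow_add, mul_assoc]
    have h2 : Commute (α ^ a * j) (α ^ 4) := by
      rw [← Q.sq_aj a]
      exact (Commute.refl _).pow_right 2
    rw [h1, ← mul_assoc, h2.eq, mul_assoc, ← pow_two, Q.sq_aj, ← pow_add]
    exact Q.a8

theorem nf_one (α j : G) : NF α j 0 1 := ⟨0, rfl, Or.inl (pow_zero _).symm⟩

theorem nf_of_mem_closure (Q : QD α j) {x : G} (hx : x ∈ closure {α, j}) :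
    ∃ ε, NF α j ε x := by
  induction hx using Subgroup.closure_induction with
  | mem u hu =>
    rcases hu with rfl | rfl
    · exact ⟨1, 1, rfl, Or.inl (pow_one _).symm⟩
    · exact ⟨0, 0, rfl, Or.inr (by simp)⟩
  | one => exact ⟨0, nf_one _ _⟩
  | mul u v _ _ hu hv =>
    obtain ⟨a, ha⟩ := hu
    obtain ⟨b, hb⟩ := hv
    exact ⟨_, Q.mul ha hb⟩
  | inv u _ hu =>
    obtain ⟨a, ha⟩ := hu
    exact ⟨_, Q.inv' ha⟩

theorem pow8_of_nf (Q : QD α j) {ε : ℕ} {x : G} (hx : NF α j ε x) : x ^ 8 = 1 := by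
  obtain ⟨a, ha, rfl | rfl⟩ := hx
  · rw [← pow_mul, mul_comm, pow_mul, Q.a8, one_pow]
  · rw [show 8 = 2 * 2 * 2 from rfl, pow_mul, pow_mul, Q.sq_aj, ← pow_mul, ← pow_mul]
    rw [show 4 * 2 * 2 = 8 * 2 from rfl, pow_mul, Q.a8, one_pow]

theorem isPGroup (Q : QD α j) : IsPGroup 2 (closure {α, j}) := by
  intro g
  obtain ⟨ε, hε⟩ := Q.nf_of_mem_closure g.2
  exact ⟨3, Subtype.ext (Q.pow8_of_nf hε)⟩

/-- the even part -/
def even (Q : QD α j) : Subgroup G where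
  carrier := {x | NF α j 0 x}
  one_mem' := nf_one _ _
  mul_mem' := fun hx hy => Q.mul hx hy
  inv_mem' := fun hx => Q.inv' hx

theorem ne_comm (Q : QD α j) : j * α ≠ α * j := by
  intro h
  have h1 := Q.inv
  rw [h, mul_inv_cancel_right] at h1
  apply Q.a4
  have h2 : α ^ 2 = 1 := by
    rw [pow_two]
    nth_rewrite 1 [h1]
    exact inv_mul_cancel α
  rw [show 4 = 2 * 2 from rfl, pow_mul, h2, one_pow]

theorem j_not_mem (Q : QD α j) : j ∉ zpowers α := by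
  intro h
  obtain ⟨k, hk⟩ := mem_zpowers_iff.1 h
  apply Q.ne_comm
  rw [← hk]
  exact ((Commute.refl α).zpow_left k).eq

theorem a_not_even (Q : QD α j) : α ∉ Q.even := by
  rintro ⟨m, hm, h | h⟩
  · -- `α = α ^ m` with `m` even
    have h1 : α ^ 1 = α ^ m := by rw [pow_one]; exact h
    have h2 := (pow_eq_pow_iff_modEq).1 h1
    rw [Q.orderOf_a] at h2
    have h3 : 1 % 8 = m % 8 := h2
    omega
  · apply Q.j_not_mem
    have : j = (α ^ m)⁻¹ * α := by
      nth_rewrite 2 [h]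
      group
    rw [this]
    exact mul_mem (inv_mem (npow_mem_zpowers α m)) (mem_zpowers α)

end QD

end Cfsg.Agent.Lib.Helper53.Zas
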