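import Cfsg.Agent.Lib.Helper53.Zas.Sylow16

/-!
# Fusion in a perfect group with generalized quaternion Sylow 2-subgroups of order sixteen
-/

set_option autoImplicit false
set_option linter.style.haveILetI false
set_option linter.unusedSectionVars false
set_option linter.unusedSimpArgs false

namespace Cfsg.Agent.Lib.Helper53.Zas

open Subgroup
open scoped commutatorElement

variable {G : Type*} [Group G] {i j d α : G}

theorem TD.pow_mod (T : TD i j d) (r : ℕ) : i ^ r = i ^ (r % 4) := by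
  conv_lhs => rw [← Nat.div_add_mod r 4, pow_add, pow_mul, T.i4, one_pow, one_mul]

theorem TD.conj_i (T : TD i j d) (r : ℕ) : ∃ x, i ^ r * j = x * i * x⁻¹ := by
  rw [T.pow_mod]
  have hlt : r % 4 < 4 := Nat.mod_lt _ (by norm_num)
  generalize r % 4 = s at hlt
  have h1 : i * j = (d * d) * i * (d * d)⁻¹ := by
    calc i * j = d * (d * i * d⁻¹) * d⁻¹ := by rw [T.di, T.dj]
      _ = (d * d) * i * (d * d)⁻¹ := by group
  interval_cases s
  · exact ⟨d, by rw [pow_zero, one_mul, T.di]⟩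
  · exact ⟨d * d, by rw [pow_one, h1]⟩
  · refine ⟨i * j * d, ?_⟩
    have h2 : i ^ 2 * j = j⁻¹ := by
      rw [← T.j2, ← pow_succ, eq_inv_iff_mul_eq_one, ← pow_succ]
      exact T.j4
    rw [h2, ← T.rot.inv]
    nth_rewrite 2 [← T.di]
    group
  · refine ⟨j * (d * d), ?_⟩
    have h2 : i ^ 3 * j = j * (i * j) * j⁻¹ := by
      rw [← T.inv_i, ← T.ji]
      group
    rw [h2, h1]
    group

theorem TD.conj_i' (T : TD i j d) (r : ℕ) (hr : (i ^ r) ^ 2 = i ^ 2) :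
    ∃ x, i ^ r = x * i * x⁻¹ := by
  rw [T.pow_mod] at hr ⊢
  have hlt : r % 4 < 4 := Nat.mod_lt _ (by norm_num)
  generalize r % 4 = s at hlt hr
  interval_cases s
  · exfalso; apply T.i2; rw [← hr]; simp
  · exact ⟨1, by simp⟩
  · exfalso; apply T.i2; rw [← hr, ← pow_mul]; exact T.i4
  · exact ⟨j, by rw [T.inv, T.inv_i]⟩

theorem NF.congr {ε ε' : ℕ} {x : G} (h : ε % 2 = ε' % 2) (hx : NF α j ε x) : NF α j ε' x := by
  obtain ⟨m, hm, hx⟩ := hx
  exact ⟨m, hm.trans h, hx⟩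

theorem ZHyp.fusion [Finite G] (h : ZHyp G) (hperf : commutator G = ⊤) (T : TD i j d)
    (hα : α ^ 2 = i) (hαj : j * α * j⁻¹ = α⁻¹) :
    ∃ (m : ℕ) (g : G), Odd m ∧ g * (α ^ m * j) * g⁻¹ = i := by
  have Q := T.qd hα hαj
  obtain ⟨P, hSP⟩ := Q.isPGroup.exists_le_sylow
  have hαP : α ∈ P := hSP (subset_closure (by simp))
  have hjP : j ∈ P := hSP (subset_closure (by simp))
  have nf := h.sylow_nf T hα hαj P hαP hjP
  have nf' : ∀ x ∈ P, NF α j 0 x ∨ NF α j 1 x := by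
    intro x hx
    obtain ⟨ε, hε⟩ := nf x hx
    rcases Nat.mod_two_eq_zero_or_one ε with h0 | h1
    · exact Or.inl (hε.congr h0)
    · exact Or.inr (hε.congr h1)
  have hfoc : (P : Subgroup G).focalSubgroup = P := by
    rw [← Subgroup.commutator_inf_eq_focalSubgroup, hperf, top_inf_eq]
  have hex : ∃ g₀, (g₀ ∈ (P : Subgroup G) ∧ ∃ x ∈ (P : Subgroup G), ∃ u : G, g₀ = ⁅x, u⁆) ∧
      g₀ ∉ Q.even := by
    by_contra hall
    push Not at hall
    have hle : (P : Subgroup G).focalSubgroup ≤ Q.even := by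
      rw [Subgroup.focalSubgroup_def, closure_le]
      intro g hg
      exact hall g hg
    rw [hfoc] at hle
    exact Q.a_not_even (hle hαP)
  obtain ⟨g₀, ⟨hg₀P, x, hxP, u, rfl⟩, hg₀⟩ := hex
  have hprod : ⁅x, u⁆ = x * (u * x⁻¹ * u⁻¹) := by rw [commutatorElement_def]; group
  have hx'P : u * x⁻¹ * u⁻¹ ∈ P := by
    have h1 : u * x⁻¹ * u⁻¹ = x⁻¹ * ⁅x, u⁆ := by rw [hprod]; group
    rw [h1]
    exact mul_mem (inv_mem hxP) hg₀P
  have key : ∃ a₀ v : G, NF α j 1 a₀ ∧ NF α j 0 (v * a₀ * v⁻¹) := by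
    rcases nf' x hxP with h0 | h1 <;> rcases nf' _ hx'P with h0' | h1'
    · exfalso
      apply hg₀
      rw [hprod]
      exact Q.mul h0 h0'
    · refine ⟨_, u⁻¹, h1', ?_⟩
      have h2 : u⁻¹ * (u * x⁻¹ * u⁻¹) * u⁻¹⁻¹ = x⁻¹ := by group
      rw [h2]
      exact Q.inv' h0
    · exact ⟨x⁻¹, u, Q.inv' h1, h0'⟩
    · exfalso
      apply hg₀
      rw [hprod]
      exact (Q.mul h1 h1').congr rfl
  obtain ⟨a₀, v, ⟨m, hm, ha₀⟩, ⟨m', hm', hb₀⟩⟩ := key
  have hm1 : m % 2 = 1 := hm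
  have hm0 : m' % 2 = 0 := hm'
  obtain ⟨r, rfl⟩ : ∃ r, m' = 2 * r := ⟨m' / 2, by omega⟩
  have hαr : α ^ (2 * r) = i ^ r := by rw [pow_mul, hα]
  have h4 : α ^ 4 = i ^ 2 := by rw [← hα, ← pow_mul]
  rcases ha₀ with rfl | rfl
  · exfalso
    have hb4 : (v * α ^ m * v⁻¹) ^ 4 = 1 := by
      rcases hb₀ with hb | hb
      · rw [hb, ← pow_mul, show 2 * r * 4 = 8 * r by ring, pow_mul, Q.a8, one_pow]
      · rw [hb, show 4 = 2 * 2 from rfl, pow_mul, Q.sq_aj, ← pow_mul]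
        exact Q.a8
    rw [conj_pow] at hb4
    have h5 : (α ^ m) ^ 4 = 1 := by
      calc (α ^ m) ^ 4 = v⁻¹ * (v * (α ^ m) ^ 4 * v⁻¹) * v := by group
        _ = 1 := by rw [hb4]; group
    apply Q.a4
    obtain ⟨k, rfl⟩ : ∃ k, m = 2 * k + 1 := ⟨m / 2, by omega⟩
    rwa [← pow_mul, show (2 * k + 1) * 4 = 8 * k + 4 by ring, pow_add, pow_mul, Q.a8, one_pow,
      one_mul] at h5
  · have hb2 : (v * (α ^ m * j) * v⁻¹) ^ 2 = i ^ 2 := by
      rw [conj_pow, Q.sq_aj, h4, h.central T.orderOf_z v, mul_inv_cancel_right]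
    obtain ⟨x₀, hx₀⟩ : ∃ x₀, v * (α ^ m * j) * v⁻¹ = x₀ * i * x₀⁻¹ := by
      rcases hb₀ with hb | hb
      · rw [hb, hαr] at hb2 ⊢
        exact T.conj_i' r hb2
      · rw [hb, hαr]
        exact T.conj_i r
    refine ⟨m, x₀⁻¹ * v, Nat.odd_iff.2 hm1, ?_⟩
    calc x₀⁻¹ * v * (α ^ m * j) * (x₀⁻¹ * v)⁻¹ = x₀⁻¹ * (v * (α ^ m * j) * v⁻¹) * x₀ := by group
      _ = i := by rw [hx₀]; group

end Cfsg.Agent.Lib.Helper53.Zas
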