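import Cfsg.Agent.Lib.Helper53.Zas.Lin
import Cfsg.Agent.Lib.Helper66.FrobCompl

/-!
# Abstract hypotheses for the Zassenhaus theorem, and their derivation from a linear
fixed-point-free representation
-/

set_option autoImplicit false
set_option linter.style.haveILetI false
set_option linter.unusedSectionVars false
set_option linter.unusedSimpArgs false

namespace Cfsg.Agent.Lib.Helper53.Zas

variable {G : Type*} [Group G]

/-- the alternatives for a group acting fixed-point-freely on a plane -/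
def Alt (X : Subgroup G) : Prop :=
  (∀ a b : X, a * b = b * a) ∨
  (∃ B : Subgroup X, (∀ g : X, g ^ 2 ∈ B) ∧ ∀ a ∈ B, ∀ b ∈ B, a * b = b * a) ∨
  (∃ f : X →* alternatingGroup (Fin 4), Function.Surjective f ∧ f.ker ≤ Subgroup.center X) ∨
  (∃ f : X →* Equiv.Perm (Fin 4), Function.Surjective f ∧ f.ker ≤ Subgroup.center X) ∨
  (∃ f : X →* alternatingGroup (Fin 5), Function.Surjective f ∧ f.ker ≤ Subgroup.center X)

/-- binary tetrahedral data -/
structure TD (i j d : G) : Prop where
  i4 : i ^ 4 = 1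
  i2 : i ^ 2 ≠ 1
  j2 : j ^ 2 = i ^ 2
  inv : j * i * j⁻¹ = i⁻¹
  d3 : d ^ 3 = 1
  di : d * i * d⁻¹ = j
  dj : d * j * d⁻¹ = i * j

/-- rigidity: a subgroup containing the quaternion part of binary tetrahedral data contains the
element of order three -/
def Rig (X : Subgroup G) : Prop := ∀ i j d : G, TD i j d → i ∈ X → j ∈ X → d ∈ X

/-- the abstract hypotheses -/
structure ZHyp (G : Type*) [Group G] : Prop where
  cyc : ∀ H : Subgroup G, (∀ a ∈ H, ∀ b ∈ H, a * b = b * a) → IsCyclic H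
  inv_unique : ∀ s t : G, orderOf s = 2 → orderOf t = 2 → s = t
  planeA : ∀ w w' : G, w ^ 3 = 1 → w' ^ 3 = 1 → w * w' ≠ w' * w →
    ∃ X : Subgroup G, w ∈ X ∧ w' ∈ X ∧ Rig X ∧ ∀ Y : Subgroup G, Y ≤ X → Alt Y
  planeB : ∀ (y j : G) (k : ℕ), orderOf j = 4 → y * j = j * y ^ k → y * j ≠ j * y →
    ∃ X : Subgroup G, y ∈ X ∧ j ∈ X ∧ Rig X ∧ ∀ Y : Subgroup G, Y ≤ X → Alt Y

theorem rigid_ring {R : Type*} [Ring R] (I J D : R) (hI : I * I = -1) (hJ : J * J = -1)
    (hJI : J * I = -(I * J)) (hDI : D * I = J * D) (hDJ : D * J = I * J * D)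
    (hD : D * D = -D - 1) : 4 * (2 * D + (1 + I + J + I * J)) = 0 := by
  have r1 : ∀ x, I * (I * x) = -x := fun x => by rw [← mul_assoc, hI, neg_mul, one_mul]
  have r2 : ∀ x, J * (J * x) = -x := fun x => by rw [← mul_assoc, hJ, neg_mul, one_mul]
  have r3 : ∀ x, J * (I * x) = -(I * (J * x)) := fun x => by
    rw [← mul_assoc, hJI, neg_mul, mul_assoc]
  have r4 : ∀ x, D * (I * x) = J * (D * x) := fun x => by rw [← mul_assoc, hDI, mul_assoc]
  have r5 : ∀ x, D * (J * x) = I * (J * (D * x)) := fun x => by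
    rw [← mul_assoc, hDJ, mul_assoc, mul_assoc]
  have r6 : ∀ x, D * (D * x) = -(D * x) - x := fun x => by
    rw [← mul_assoc, hD, sub_mul, neg_mul, one_mul]
  have hPM : (2 * D + (1 + I + J + I * J)) * (2 * D - (1 + I + J + I * J) + 2) = 0 := by
    simp only [two_mul, mul_two, mul_add, add_mul, mul_sub, sub_mul, mul_one, one_mul, mul_assoc,
      r1, r2, r3, r4, r5, r6, hI, hJ, hJI, hDI, hDJ, hD, mul_neg, neg_mul, neg_neg]
    abel
  have hMI : (2 * D - (1 + I + J + I * J) + 2) * I =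
      J * (2 * D - (1 + I + J + I * J) + 2) - 2 * J + 2 * I := by
    simp only [two_mul, mul_two, mul_add, add_mul, mul_sub, sub_mul, mul_one, one_mul, mul_assoc,
      r1, r2, r3, r4, r5, r6, hI, hJ, hJI, hDI, hDJ, hD, mul_neg, neg_mul, neg_neg]
    abel
  have hPJ : (2 * D + (1 + I + J + I * J)) * J = I * J * (2 * D + (1 + I + J + I * J)) := by
    simp only [two_mul, mul_two, mul_add, add_mul, mul_sub, sub_mul, mul_one, one_mul, mul_assoc,
      r1, r2, r3, r4, r5, r6, hI, hJ, hJI, hDI, hDJ, hD, mul_neg, neg_mul, neg_neg]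
    abel
  set P := 2 * D + (1 + I + J + I * J) with hP
  set M := 2 * D - (1 + I + J + I * J) + 2 with hM
  have h1 : P * (2 * I - 2 * J) = 0 := by
    have h2 : P * M * I = 0 := by rw [hPM, zero_mul]
    rw [mul_assoc, hMI, mul_add, mul_sub, ← mul_assoc P J M, hPJ, mul_assoc (I * J) P M, hPM,
      mul_zero, zero_sub] at h2
    rw [mul_sub, sub_eq_add_neg, add_comm]
    exact h2
  have h3 : (2 * I - 2 * J) * (I - J) = -4 := by
    simp only [two_mul, mul_two, mul_add, add_mul, mul_sub, sub_mul, hI, hJ, hJI]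
    abel_nf
    norm_num
  have h4 : P * (-4) = 0 := by rw [← h3, ← mul_assoc, h1, zero_mul]
  have h5 : (4 : R) * P = -(P * (-4)) := by
    rw [mul_neg, neg_neg]
    exact (Nat.cast_commute 4 P).eq
  rw [h5, h4, neg_zero]

section linear

variable {E V : Type*} [Field E] [AddCommGroup V] [Module E V]
variable {ρ : G →* Module.End E V}

/-- an involution acts as `-1` -/
theorem FPF.involution (h : FPF ρ) {z : G} (hz : z ^ 2 = 1) (hz1 : z ≠ 1) (v : V) :
    ρ z v = -v := by
  have h1 : ρ z (v + ρ z v) = v + ρ z v := by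
    rw [map_add, ← rho_mul, ← pow_two, hz, rho_one, add_comm]
  have := h z hz1 _ h1
  exact (neg_eq_of_add_eq_zero_right this).symm

/-- an element of order three satisfies `1 + d + d² = 0` -/
theorem FPF.three (h : FPF ρ) {d : G} (hd : d ^ 3 = 1) (hd1 : d ≠ 1) (v : V) :
    ρ d (ρ d v) = -ρ d v - v := by
  have h1 : ρ d (v + ρ d v + ρ d (ρ d v)) = v + ρ d v + ρ d (ρ d v) := by
    have h2 : ρ d (ρ d (ρ d v)) = v := by
      rw [← rho_mul, ← rho_mul, ← pow_two, ← pow_succ, hd, rho_one]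
    rw [map_add, map_add, h2]
    abel
  have := h d hd1 _ h1
  rw [eq_sub_iff_add_eq, eq_neg_iff_add_eq_zero, ← this]
  abel

theorem FPF.two_ne_zero (h : FPF ρ) [Nontrivial V] {z : G} (hz : z ^ 2 = 1) (hz1 : z ≠ 1) :
    (2 : E) ≠ 0 := by
  intro h2
  obtain ⟨v, hv⟩ := exists_ne (0 : V)
  apply hv
  apply h z hz1
  rw [h.involution hz hz1, neg_eq_iff_add_eq_zero, ← two_smul E v, h2, zero_smul]

theorem TD.d_ne_one {i j d : G} (t : TD i j d) : d ≠ 1 := by
  rintro rfl
  have h1 : i = j := by simpa using t.di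
  have h2 := t.inv
  rw [← h1] at h2
  have h3 : i = i⁻¹ := by simpa using h2
  apply t.i2
  rw [pow_two]
  nth_rewrite 1 [h3]
  simp

/-- rigidity for stabilisers of subspaces -/
theorem FPF.rig [Finite G] [Nontrivial V] (h : FPF ρ) (U : Submodule E V) : Rig (stab ρ U) := by
  intro i j d t hi hj
  have hz2 : (i ^ 2) ^ 2 = 1 := by rw [← pow_mul]; exact t.i4
  have h20 : (2 : E) ≠ 0 := h.two_ne_zero hz2 t.i2
  have hI : ρ i * ρ i = -1 := by
    ext v
    have := h.involution hz2 t.i2 v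
    rw [pow_two, rho_mul] at this
    simpa using this
  have hJ : ρ j * ρ j = -1 := by
    ext v
    have := h.involution hz2 t.i2 v
    rw [← t.j2, pow_two, rho_mul] at this
    simpa using this
  have hinv : ρ i⁻¹ = -ρ i := by
    have h1 : i⁻¹ = i ^ 2 * i := by
      rw [eq_comm, ← mul_eq_one_iff_eq_inv, ← pow_succ, ← pow_succ]; exact t.i4
    ext v
    rw [h1, rho_mul, h.involution hz2 t.i2]
    simp
  have hJI : ρ j * ρ i = -(ρ i * ρ j) := by
    have h1 : j * i = i⁻¹ * j := by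
      have := t.inv
      rw [mul_inv_eq_iff_eq_mul] at this
      exact this
    rw [← map_mul, h1, map_mul, hinv, neg_mul]
  have hDI : ρ d * ρ i = ρ j * ρ d := by
    rw [← map_mul, ← map_mul]
    congr 1
    have := t.di
    rw [mul_inv_eq_iff_eq_mul] at this
    exact this
  have hDJ : ρ d * ρ j = ρ i * ρ j * ρ d := by
    rw [← map_mul, ← map_mul, ← map_mul]
    congr 1
    have := t.dj
    rw [mul_inv_eq_iff_eq_mul] at this
    exact this
  have hD : ρ d * ρ d = -ρ d - 1 := by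
    ext v
    have := h.three t.d3 t.d_ne_one v
    simpa using this
  have key := rigid_ring (ρ i) (ρ j) (ρ d) hI hJ hJI hDI hDJ hD
  intro u hu
  have h1 := congrArg (fun f : Module.End E V => f u) key
  have h4 : (4 : Module.End E V) = (4 : E) • (1 : Module.End E V) := by
    rw [← Algebra.algebraMap_eq_smul_one]; exact (map_ofNat _ 4).symm
  have h2' : (2 : Module.End E V) = (2 : E) • (1 : Module.End E V) := by
    rw [← Algebra.algebraMap_eq_smul_one]; exact (map_ofNat _ 2).symm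
  simp only [h4, h2', smul_mul_assoc, one_mul, LinearMap.smul_apply, LinearMap.add_apply,
    Module.End.one_apply, Module.End.mul_apply, LinearMap.zero_apply] at h1
  have h40 : (4 : E) ≠ 0 := by
    have : (4 : E) = 2 * 2 := by norm_num
    rw [this]; exact mul_ne_zero h20 h20
  have h5 := (smul_eq_zero.1 h1).resolve_left h40
  have h6 : ρ d u = -(2 : E)⁻¹ • (u + ρ i u + ρ j u + ρ i (ρ j u)) := by
    have h7 : (2 : E) • ρ d u = -(u + ρ i u + ρ j u + ρ i (ρ j u)) :=
      eq_neg_of_add_eq_zero_left h5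
    rw [neg_smul, ← smul_neg, ← h7, smul_smul, inv_mul_cancel₀ h20, one_smul]
  rw [h6]
  apply Submodule.smul_mem
  exact U.add_mem (U.add_mem (U.add_mem hu (hi u hu)) (hj u hu)) (hi _ (hj u hu))

end linear

end Cfsg.Agent.Lib.Helper53.Zas
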