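import Cfsg.Agent.Lib.Helper53.Zas.LemmaY

/-!
# Consequences of the key lemma: the sign argument, and elements of order three
-/

set_option autoImplicit false
set_option linter.style.haveILetI false
set_option linter.unusedSectionVars false
set_option linter.unusedSimpArgs false

namespace Cfsg.Agent.Lib.Helper53.Zas

open Subgroup

variable {G : Type*} [Group G] {i j d : G}

theorem TD.sign_one {X : Subgroup G} {A : Type*} [CommGroup A] (χ : X →* A) {p q e : G}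
    (T : TD p q e) (hp : p ∈ X) (hq : q ∈ X) (he : e ∈ X) : χ ⟨p, hp⟩ = 1 := by
  have h1 : (⟨e, he⟩ * ⟨q, hq⟩ * ⟨e, he⟩⁻¹ : X) = ⟨p, hp⟩ * ⟨q, hq⟩ := Subtype.ext T.dj
  have h2 := congrArg χ h1
  rw [map_mul, map_mul, map_inv, mul_comm (χ ⟨e, he⟩), mul_inv_cancel_right, map_mul] at h2
  exact mul_eq_right.1 h2.symm

theorem ZHyp.lemmaQ [Finite G] (h : ZHyp G) (T : TD i j d) {β : G} (hβ : β ^ 2 = i)
    (hβj : j * β * j⁻¹ = β⁻¹) {l : ℕ} (hl : Odd l) {q e : G} (hq : q ∈ closure {β, j}) :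
    ¬ TD (β ^ l * j) q e := by
  intro T'
  have hiβ : i ∈ zpowers β := by rw [← hβ]; exact Subgroup.npow_mem_zpowers β 2
  obtain ⟨X, hβX, hiX, hjX, hdX, hR, hcases⟩ := h.planeY T hβj hiβ
  have hqX : q ∈ X := by
    refine (closure_le X).2 ?_ hq
    rintro _ (rfl | rfl)
    exacts [hβX, hjX]
  have hsX : β ^ l * j ∈ X := X.mul_mem (X.pow_mem hβX l) hjX
  have heX : e ∈ X := hR _ _ _ T' hsX hqX
  have hβ8 : (⟨β, hβX⟩ : X) ^ 8 = 1 := by
    apply Subtype.ext
    show β ^ 8 = 1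
    rw [show 8 = 2 * 4 from rfl, pow_mul, hβ, T.i4]
  have hne : ∀ {Γ : Type} [Group Γ] (f : X →* Γ), f.ker ≤ center X → (f ⟨β, hβX⟩) ^ 2 ≠ 1 := by
    intro Γ _ f hf h2
    have h3 : (⟨i, hiX⟩ : X) ∈ f.ker := by
      have h4 : (⟨i, hiX⟩ : X) = ⟨β, hβX⟩ ^ 2 := Subtype.ext hβ.symm
      rw [MonoidHom.mem_ker, h4, map_pow, h2]
    have h5 := mem_center_iff.1 (hf h3) ⟨j, hjX⟩
    exact T.ne_comm (congrArg Subtype.val h5).symm
  rcases hcases with ⟨f, -, hf⟩ | ⟨f, -, hf⟩ | ⟨f, -, hf⟩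
  · have h8 : (f ⟨β, hβX⟩) ^ 8 = 1 := by rw [← map_pow, hβ8, map_one]
    rcases alt4_pow (f ⟨β, hβX⟩) with h2 | h3
    · exact hne f hf h2
    · apply hne f hf
      rwa [show 8 = 3 + 3 + 2 from rfl, pow_add, pow_add, h3, one_mul, one_mul] at h8
  · have h8 : (f ⟨β, hβX⟩) ^ 8 = 1 := by rw [← map_pow, hβ8, map_one]
    have hs := perm4_sign _ h8 (hne f hf)
    let χ : X →* ℤˣ := Equiv.Perm.sign.comp f
    have h1 : χ ⟨β ^ l * j, hsX⟩ = 1 := T'.sign_one χ hsX hqX heX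
    have h2 : χ ⟨j, hjX⟩ = 1 := T.rot.sign_one χ hjX (X.mul_mem hiX hjX) hdX
    have h3 : (⟨β ^ l * j, hsX⟩ : X) = ⟨β, hβX⟩ ^ l * ⟨j, hjX⟩ := rfl
    have h4 : χ ⟨β, hβX⟩ = -1 := hs
    rw [h3, map_mul, map_pow, h2, h4, mul_one, hl.neg_one_pow] at h1
    exact absurd h1 (by decide)
  · have h8 : (f ⟨β, hβX⟩) ^ 8 = 1 := by rw [← map_pow, hβ8, map_one]
    rcases alt5_pow (f ⟨β, hβX⟩) with h2 | h3 | h5
    · exact hne f hf h2
    · apply hne f hf
      rwa [show 8 = 3 + 3 + 2 from rfl, pow_add, pow_add, h3, one_mul, one_mul] at h8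
    · apply hne f hf
      have h3 : (f ⟨β, hβX⟩) ^ 3 = 1 := by
        rwa [pow_add (f ⟨β, hβX⟩) 5 3, h5, one_mul] at h8
      rwa [pow_add (f ⟨β, hβX⟩) 3 2, h3, one_mul] at h5

/-- the lifting property (binary tetrahedral data inside the group generated by two non-commuting
elements of order three) -/
def Lift (G : Type*) [Group G] : Prop :=
  ∀ w w' : G, w ^ 3 = 1 → w' ^ 3 = 1 → w * w' ≠ w' * w →
    ∃ i j d : G, i ∈ closure {w, w'} ∧ j ∈ closure {w, w'} ∧ d ∈ closure {w, w'} ∧ TD i j d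

theorem ZHyp.no_TD_comm [Finite G] (h : ZHyp G) {e i' j' d' : G} (he : orderOf e = 4)
    (T' : TD i' j' d') (h1 : e * i' = i' * e) (h2 : e * j' = j' * e) : False := by
  have h3 : i' ∈ zpowers e := h.mem_zpowers (by rw [he, T'.orderOf_i]) h1
  have h4 : j' ∈ zpowers e := h.mem_zpowers (by rw [he, T'.rot.orderOf_i]) h2
  obtain ⟨a, rfl⟩ := mem_zpowers_iff.1 h3
  obtain ⟨b, rfl⟩ := mem_zpowers_iff.1 h4
  exact T'.ne_comm ((Commute.refl e).zpow_zpow a b).eq

theorem ZHyp.no_lift_comm [Finite G] (h : ZHyp G) (hL : Lift G) {e c c' : G} (he : orderOf e = 4)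
    (hc : c ^ 3 = 1) (hc' : c' ^ 3 = 1) (h1 : e * c = c * e) (h2 : e * c' = c' * e) :
    c * c' = c' * c := by
  by_contra hne
  obtain ⟨i', j', d', hi', hj', -, T'⟩ := hL c c' hc hc' hne
  have hle : closure {c, c'} ≤ centralizer {e} := by
    rw [closure_le]
    rintro _ (rfl | rfl)
    · exact mem_centralizer_singleton_iff.2 h1.symm
    · exact mem_centralizer_singleton_iff.2 h2.symm
  exact h.no_TD_comm he T' (mem_centralizer_singleton_iff.1 (hle hi')).symm
    (mem_centralizer_singleton_iff.1 (hle hj')).symm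

/-- a power of an element of order three -/
theorem cases_of_mem_zpowers_three {c x : G} (hc : c ^ 3 = 1) (hx : x ∈ zpowers c) :
    x = 1 ∨ x = c ∨ x = c⁻¹ := by
  obtain ⟨m, rfl⟩ := mem_zpowers_iff.1 hx
  have h3 : c ^ (3 : ℤ) = 1 := by exact_mod_cast hc
  rw [zpow_eq_zpow_emod m h3]
  have h1 : 0 ≤ m % 3 := Int.emod_nonneg _ (by norm_num)
  have h2 : m % 3 < 3 := Int.emod_lt_of_pos _ (by norm_num)
  generalize m % 3 = r at h1 h2
  interval_cases r
  · left; simp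
  · right; left; simp
  · right; right
    rw [eq_inv_iff_mul_eq_one, show (2 : ℤ) = ((2 : ℕ) : ℤ) from rfl, zpow_natCast, ← pow_succ]
    exact hc

theorem ZHyp.no_three [Finite G] (h : ZHyp G) (hL : Lift G) (T : TD i j d) {c : G}
    (hc : orderOf c = 3) (hci : c * i = i * c) : False := by
  have hc3 : c ^ 3 = 1 := by rw [← hc, pow_orderOf_eq_one]
  have hc1 : c ≠ 1 := by
    rintro rfl
    rw [orderOf_one] at hc
    omega
  have hcinv : c ≠ c⁻¹ := by
    intro hh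
    apply hc1
    have h2 : c ^ 2 = 1 := by
      rw [pow_two]
      nth_rewrite 1 [hh]
      exact inv_mul_cancel c
    rwa [pow_succ, h2, one_mul] at hc3
  -- step 1: `c` commutes with `j`
  have hcj : c * j = j * c := by
    have h1 : (j * c * j⁻¹) ^ 3 = 1 := by rw [conj_pow, hc3]; group
    have hji : j⁻¹ * i * j = i⁻¹ := by
      have := T.inv
      calc j⁻¹ * i * j = j⁻¹ * (i⁻¹)⁻¹ * j := by rw [inv_inv]
        _ = j⁻¹ * (j * i * j⁻¹)⁻¹ * j := by rw [this]
        _ = i⁻¹ := by group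
    have hci' : c * i⁻¹ = i⁻¹ * c := by
      calc c * i⁻¹ = i⁻¹ * (i * c) * i⁻¹ := by group
        _ = i⁻¹ * (c * i) * i⁻¹ := by rw [hci]
        _ = i⁻¹ * c := by group
    have h2 : i * (j * c * j⁻¹) = (j * c * j⁻¹) * i := by
      calc i * (j * c * j⁻¹) = j * ((j⁻¹ * i * j) * c) * j⁻¹ := by group
        _ = j * (c * (j⁻¹ * i * j)) * j⁻¹ := by rw [hji, hci']
        _ = (j * c * j⁻¹) * i := by group
    have h3 := h.no_lift_comm hL T.orderOf_i hc3 h1 hci.symm h2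
    have h4 : j * c * j⁻¹ ∈ zpowers c := by
      apply h.mem_zpowers _ h3
      rw [hc]
      exact orderOf_dvd_of_pow_eq_one h1
    rcases cases_of_mem_zpowers_three hc3 h4 with h5 | h5 | h5
    · exfalso
      apply hc1
      calc c = j⁻¹ * (j * c * j⁻¹) * j := by group
        _ = 1 := by rw [h5]; group
    · calc c * j = (j * c * j⁻¹) * j := by rw [h5]
        _ = j * c := by group
    · exfalso
      have hcomm : Commute i c := hci.symm
      have hy : j * (i * c) * j⁻¹ = (i * c)⁻¹ := by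
        calc j * (i * c) * j⁻¹ = (j * i * j⁻¹) * (j * c * j⁻¹) := by group
          _ = i⁻¹ * c⁻¹ := by rw [T.inv, h5]
          _ = (i * c)⁻¹ := by rw [hcomm.eq, mul_inv_rev]
      have hi : i ∈ zpowers (i * c) := by
        refine mem_zpowers_iff.2 ⟨9, ?_⟩
        rw [show (9 : ℤ) = ((9 : ℕ) : ℤ) from rfl, zpow_natCast, hcomm.mul_pow,
          show 9 = 3 * 3 from rfl, pow_mul c, hc3, one_pow, mul_one,
          show 3 * 3 = 4 * 2 + 1 from rfl, pow_succ, pow_mul, T.i4, one_pow, one_mul]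
      have h8 := h.lemmaY T hy hi
      rw [hcomm.mul_pow, show 8 = 4 * 2 from rfl, pow_mul i, T.i4, one_pow, one_mul,
        show 4 * 2 = 3 * 2 + 2 from rfl, pow_add, pow_mul, hc3, one_pow, one_mul] at h8
      apply hc1
      rwa [pow_succ, h8, one_mul] at hc3
  -- step 2
  have h1 : (d * c * d⁻¹) ^ 3 = 1 := by rw [conj_pow, hc3]; group
  have hdj : (d * c * d⁻¹) * j = j * (d * c * d⁻¹) := by
    calc (d * c * d⁻¹) * j = (d * c * d⁻¹) * (d * i * d⁻¹) := by rw [T.di]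
      _ = d * (c * i) * d⁻¹ := by group
      _ = d * (i * c) * d⁻¹ := by rw [hci]
      _ = (d * i * d⁻¹) * (d * c * d⁻¹) := by group
      _ = j * (d * c * d⁻¹) := by rw [T.di]
  have hdij : (d * c * d⁻¹) * (i * j) = (i * j) * (d * c * d⁻¹) := by
    calc (d * c * d⁻¹) * (i * j) = (d * c * d⁻¹) * (d * j * d⁻¹) := by rw [T.dj]
      _ = d * (c * j) * d⁻¹ := by group
      _ = d * (j * c) * d⁻¹ := by rw [hcj]
      _ = (d * j * d⁻¹) * (d * c * d⁻¹) := by group
      _ = (i * j) * (d * c * d⁻¹) := by rw [T.dj]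
  have hdi : i * (d * c * d⁻¹) = (d * c * d⁻¹) * i := by
    calc i * (d * c * d⁻¹) = (i * j) * (j⁻¹ * ((d * c * d⁻¹) * j)) * j⁻¹ := by group
      _ = (i * j) * (d * c * d⁻¹) * j⁻¹ := by rw [hdj]; group
      _ = (d * c * d⁻¹) * i := by rw [← hdij]; group
  have h3 := h.no_lift_comm hL T.orderOf_i hc3 h1 hci.symm hdi
  have h4 : d * c * d⁻¹ ∈ zpowers c := by
    apply h.mem_zpowers _ h3
    rw [hc]
    exact orderOf_dvd_of_pow_eq_one h1
  rcases cases_of_mem_zpowers_three hc3 h4 with h5 | h5 | h5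
  · apply hc1
    calc c = d⁻¹ * (d * c * d⁻¹) * d := by group
      _ = 1 := by rw [h5]; group
  · have hcd : c * d = d * c := by
      calc c * d = (d * c * d⁻¹) * d := by rw [h5]
        _ = d * c := by group
    have hd3 : orderOf d = 3 := orderOf_eq_prime T.d3 T.d_ne_one
    have hdc : d ∈ zpowers c := h.mem_zpowers (by rw [hc, hd3]) hcd
    obtain ⟨m, hm⟩ := mem_zpowers_iff.1 hdc
    have hdi' : Commute d i := by
      rw [← hm]
      exact Commute.zpow_left hci m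
    have := T.di
    rw [hdi'.eq, mul_inv_cancel_right] at this
    apply T.ne_comm
    rw [this]
  · apply hcinv
    have hddd : d * d * d = 1 := by rw [← T.d3, pow_succ, pow_two]
    calc c = (d * d * d) * c * (d * d * d)⁻¹ := by rw [hddd]; group
      _ = d * (d * (d * c * d⁻¹) * d⁻¹) * d⁻¹ := by group
      _ = d * (d * c⁻¹ * d⁻¹) * d⁻¹ := by rw [h5]
      _ = d * (d * c * d⁻¹)⁻¹ * d⁻¹ := by group
      _ = c⁻¹ := by rw [h5, inv_inv, h5]

end Cfsg.Agent.Lib.Helper53.Zas
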