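import Cfsg.Agent.Lib.Helper53.Zas.Basic

/-!
# The key lemma on elements inverted by `j`
-/

set_option autoImplicit false
set_option linter.style.haveILetI false
set_option linter.unusedSectionVars false
set_option linter.unusedSimpArgs false
set_option maxRecDepth 100000

namespace Cfsg.Agent.Lib.Helper53.Zas

open Subgroup

variable {G : Type*} [Group G] {i j d : G}

theorem perm4_pow : ∀ σ : Equiv.Perm (Fin 4), σ ^ 2 = 1 ∨ σ ^ 3 = 1 ∨ σ ^ 4 = 1 := by decide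

theorem perm4_sign : ∀ σ : Equiv.Perm (Fin 4), σ ^ 8 = 1 → σ ^ 2 ≠ 1 → Equiv.Perm.sign σ = -1 := by
  decide

theorem perm5_pow : ∀ σ : Equiv.Perm (Fin 5), Equiv.Perm.sign σ = 1 →
    σ ^ 2 = 1 ∨ σ ^ 3 = 1 ∨ σ ^ 5 = 1 := by decide

theorem perm4_pow' : ∀ σ : Equiv.Perm (Fin 4), Equiv.Perm.sign σ = 1 →
    σ ^ 2 = 1 ∨ σ ^ 3 = 1 := by decide

theorem alt4_pow (σ : alternatingGroup (Fin 4)) : σ ^ 2 = 1 ∨ σ ^ 3 = 1 := by
  rcases perm4_pow' σ.1 (Equiv.Perm.mem_alternatingGroup.1 σ.2) with h | h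
  · exact Or.inl (Subtype.ext h)
  · exact Or.inr (Subtype.ext h)

theorem alt5_pow (σ : alternatingGroup (Fin 5)) : σ ^ 2 = 1 ∨ σ ^ 3 = 1 ∨ σ ^ 5 = 1 := by
  rcases perm5_pow σ.1 (Equiv.Perm.mem_alternatingGroup.1 σ.2) with h | h | h
  · exact Or.inl (Subtype.ext h)
  · exact Or.inr (Or.inl (Subtype.ext h))
  · exact Or.inr (Or.inr (Subtype.ext h))

/-- the first two alternatives are impossible for a subgroup containing binary tetrahedral data -/
theorem TD.alt3 (T : TD i j d) {X : Subgroup G} (hi : i ∈ X) (hj : j ∈ X) (hd : d ∈ X)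
    (hA : Alt X) :
    (∃ f : X →* alternatingGroup (Fin 4), Function.Surjective f ∧ f.ker ≤ Subgroup.center X) ∨
    (∃ f : X →* Equiv.Perm (Fin 4), Function.Surjective f ∧ f.ker ≤ Subgroup.center X) ∨
    (∃ f : X →* alternatingGroup (Fin 5), Function.Surjective f ∧ f.ker ≤ Subgroup.center X) := by
  rcases hA with h1 | ⟨B, hB1, hB2⟩ | h3
  · exact absurd (congrArg Subtype.val (h1 ⟨i, hi⟩ ⟨j, hj⟩)) T.ne_comm
  · exfalso
    have hcube : ∀ g : X, g ^ 3 = 1 → g ∈ B := by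
      intro g hg
      have h1 : g = (g ^ 2) ^ 2 := by
        rw [← pow_mul, show 2 * 2 = 3 + 1 from rfl, pow_succ, hg, one_mul]
      rw [h1]
      exact hB1 _
    have hD : (⟨d, hd⟩ : X) ^ 3 = 1 := Subtype.ext T.d3
    have hD0 := hcube _ hD
    have hD1 := hcube (⟨i, hi⟩ * ⟨d, hd⟩ * ⟨i, hi⟩⁻¹) (by rw [conj_pow, hD]; group)
    have hD2 := hcube (⟨j, hj⟩ * ⟨d, hd⟩ * ⟨j, hj⟩⁻¹) (by rw [conj_pow, hD]; group)
    have hc := congrArg Subtype.val
      (hB2 _ (B.mul_mem (B.inv_mem hD0) hD1) _ (B.mul_mem (B.inv_mem hD0) hD2))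
    simp only [Subgroup.coe_mul, Subgroup.coe_inv] at hc
    have hp : d⁻¹ * (i * d * i⁻¹) = j⁻¹ := by
      have h1 : d⁻¹ * i * d = i * j := by
        have := T.rot2.di
        calc d⁻¹ * i * d = d⁻¹ * (d * (i * j) * d⁻¹) * d := by rw [this]
          _ = i * j := by group
      have h2 : i * j * i⁻¹ = j⁻¹ := by
        have := T.rot.inv
        calc i * j * i⁻¹ = i * j * j * (i * j)⁻¹ := by group
          _ = j⁻¹ := this
      calc d⁻¹ * (i * d * i⁻¹) = (d⁻¹ * i * d) * i⁻¹ := by group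
        _ = j⁻¹ := by rw [h1, h2]
    have hq : d⁻¹ * (j * d * j⁻¹) = i * j⁻¹ := by
      have h1 : d⁻¹ * j * d = i := by
        calc d⁻¹ * j * d = d⁻¹ * (d * i * d⁻¹) * d := by rw [T.di]
          _ = i := by group
      calc d⁻¹ * (j * d * j⁻¹) = (d⁻¹ * j * d) * j⁻¹ := by group
        _ = i * j⁻¹ := by rw [h1]
    rw [hp, hq] at hc
    apply T.ne_comm
    calc i * j = j * (j⁻¹ * (i * j⁻¹)) * j * j := by group
      _ = j * (i * j⁻¹ * j⁻¹) * j * j := by rw [hc]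
      _ = j * i := by group
  · exact h3

theorem lemmaY_aux {X : Subgroup G} {Γ : Type*} [Group Γ] (f : X →* Γ)
    (hker : f.ker ≤ Subgroup.center X)
    (hΓ : ∀ σ : Γ, σ ^ 2 = 1 ∨ σ ^ 3 = 1 ∨ σ ^ 4 = 1 ∨ σ ^ 5 = 1) (T : TD i j d) {y : G}
    (hyX : y ∈ X) (hjX : j ∈ X) (hy : j * y * j⁻¹ = y⁻¹) (hi : i ∈ zpowers y) : y ^ 8 = 1 := by
  have key : ∀ t : ℕ, (f ⟨y, hyX⟩) ^ t = 1 → y ^ (2 * t) = 1 := by
    intro t ht
    have h1 : (⟨y, hyX⟩ : X) ^ t ∈ f.ker := by rw [MonoidHom.mem_ker, map_pow, ht]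
    have h2 := Subgroup.mem_center_iff.1 (hker h1) ⟨j, hjX⟩
    have h3 : j * y ^ t = y ^ t * j := congrArg Subtype.val h2
    have h4 : j * y ^ t * j⁻¹ = (y ^ t)⁻¹ := by rw [← conj_pow, hy, inv_pow]
    rw [h3, mul_inv_cancel_right] at h4
    rw [two_mul, pow_add]
    nth_rewrite 1 [h4]
    exact inv_mul_cancel _
  obtain ⟨m, hm⟩ := Subgroup.mem_zpowers_iff.1 hi
  have hbad : ∀ n : ℕ, y ^ n = 1 → i ^ n = 1 := by
    intro n hn
    rw [← hm, ← zpow_natCast, ← zpow_mul, mul_comm, zpow_mul, zpow_natCast, hn, one_zpow]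
  rcases hΓ (f ⟨y, hyX⟩) with h | h | h | h
  · have := key 2 h
    rw [show 8 = 2 * 2 * 2 from rfl, pow_mul, this, one_pow]
  · exfalso
    have h6 := hbad _ (key 3 h)
    apply T.i2
    have : i ^ (2 * 3) = i ^ 4 * i ^ 2 := by rw [← pow_add]
    rw [this, T.i4, one_mul] at h6
    exact h6
  · exact key 4 h
  · exfalso
    have h6 := hbad _ (key 5 h)
    apply T.i2
    have : i ^ (2 * 5) = i ^ 4 * i ^ 4 * i ^ 2 := by rw [← pow_add, ← pow_add]
    rw [this, T.i4, one_mul, one_mul] at h6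
    exact h6

theorem pow_pred_orderOf [Finite G] (y : G) : y ^ (orderOf y - 1) = y⁻¹ := by
  apply eq_inv_of_mul_eq_one_left
  rw [← pow_succ, Nat.sub_add_cancel (orderOf_pos y), pow_orderOf_eq_one]

/-- the plane group attached to an element inverted by `j` -/
theorem ZHyp.planeY [Finite G] (h : ZHyp G) (T : TD i j d) {y : G} (hy : j * y * j⁻¹ = y⁻¹)
    (hi : i ∈ zpowers y) :
    ∃ X : Subgroup G, y ∈ X ∧ i ∈ X ∧ j ∈ X ∧ d ∈ X ∧ Rig X ∧
    ((∃ f : X →* alternatingGroup (Fin 4), Function.Surjective f ∧ f.ker ≤ Subgroup.center X) ∨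
    (∃ f : X →* Equiv.Perm (Fin 4), Function.Surjective f ∧ f.ker ≤ Subgroup.center X) ∨
    (∃ f : X →* alternatingGroup (Fin 5), Function.Surjective f ∧ f.ker ≤ Subgroup.center X)) := by
  have h1 : y * j = j * y ^ (orderOf y - 1) := by
    rw [pow_pred_orderOf]
    calc y * j = (y⁻¹)⁻¹ * j := by rw [inv_inv]
      _ = (j * y * j⁻¹)⁻¹ * j := by rw [hy]
      _ = j * y⁻¹ := by group
  have h2 : y * j ≠ j * y := by
    intro hc
    rw [← hc, mul_inv_cancel_right] at hy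
    obtain ⟨m, hm⟩ := Subgroup.mem_zpowers_iff.1 hi
    apply T.i2
    have hy2 : y ^ 2 = 1 := by
      rw [pow_two]
      nth_rewrite 1 [hy]
      exact inv_mul_cancel y
    rw [← hm, ← zpow_natCast, ← zpow_mul, mul_comm, zpow_mul, zpow_natCast, hy2, one_zpow]
  obtain ⟨X, hyX, hjX, hR, hA⟩ := h.planeB y j _ T.rot.orderOf_i h1 h2
  have hiX : i ∈ X := (Subgroup.zpowers_le.2 hyX) hi
  have hdX : d ∈ X := hR i j d T hiX hjX
  exact ⟨X, hyX, hiX, hjX, hdX, hR, T.alt3 hiX hjX hdX (hA X le_rfl)⟩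

theorem ZHyp.lemmaY [Finite G] (h : ZHyp G) (T : TD i j d) {y : G} (hy : j * y * j⁻¹ = y⁻¹)
    (hi : i ∈ zpowers y) : y ^ 8 = 1 := by
  obtain ⟨X, hyX, hiX, hjX, hdX, hR, ⟨f, -, hf⟩ | ⟨f, -, hf⟩ | ⟨f, -, hf⟩⟩ := h.planeY T hy hi
  · apply lemmaY_aux f hf _ T hyX hjX hy hi
    intro σ
    rcases alt4_pow σ with h | h
    · exact Or.inl h
    · exact Or.inr (Or.inl h)
  · apply lemmaY_aux f hf _ T hyX hjX hy hi
    intro σ
    rcases perm4_pow σ with h | h | h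
    · exact Or.inl h
    · exact Or.inr (Or.inl h)
    · exact Or.inr (Or.inr (Or.inl h))
  · apply lemmaY_aux f hf _ T hyX hjX hy hi
    intro σ
    rcases alt5_pow σ with h | h | h
    · exact Or.inl h
    · exact Or.inr (Or.inl h)
    · exact Or.inr (Or.inr (Or.inr h))

theorem inverts_closure {x y t : G} (hc : x * y = y * x) (hx : t * x * t⁻¹ = x⁻¹)
    (hy : t * y * t⁻¹ = y⁻¹) : ∀ a ∈ closure {x, y}, t * a * t⁻¹ = a⁻¹ := by
  intro a ha
  induction ha using Subgroup.closure_induction with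
  | mem u hu =>
    rcases hu with rfl | rfl
    · exact hx
    · exact hy
  | one => group
  | mul u v hu hv hu' hv' =>
    have h1 : t * (u * v) * t⁻¹ = (t * u * t⁻¹) * (t * v * t⁻¹) := by group
    rw [h1, hu', hv', mul_inv_rev]
    exact closure_pair_comm hc _ (inv_mem hu) _ (inv_mem hv)
  | inv u hu hu' =>
    have h1 : t * u⁻¹ * t⁻¹ = (t * u * t⁻¹)⁻¹ := by group
    rw [h1, hu']

theorem ZHyp.lemmaYZ [Finite G] (h : ZHyp G) (T : TD i j d) {c : G} (hci : c * i = i * c)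
    (hcj : j * c * j⁻¹ = c⁻¹) :
    c ∈ zpowers i ∨ ∃ (β : G) (l : ℕ), β ^ 2 = i ∧ j * β * j⁻¹ = β⁻¹ ∧ c = β ^ l ∧ Odd l := by
  obtain ⟨g, hg, hig, hcg⟩ := h.exists_gen hci.symm
  have hgj : j * g * j⁻¹ = g⁻¹ := inverts_closure hci.symm T.inv hcj g hg
  have hg8 : g ^ 8 = 1 := h.lemmaY T hgj hig
  by_cases hg4 : g ^ 4 = 1
  · left
    apply mem_zpowers_of_orderOf_dvd hig hcg
    rw [T.orderOf_i]
    apply orderOf_dvd_of_pow_eq_one
    obtain ⟨m, hm⟩ := Subgroup.mem_zpowers_iff.1 hcg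
    rw [← hm, ← zpow_natCast, ← zpow_mul, mul_comm, zpow_mul, zpow_natCast, hg4, one_zpow]
  · -- `g` has order eight
    have hβ : ∃ β : G, β ^ 2 = i ∧ j * β * j⁻¹ = β⁻¹ ∧ c ∈ zpowers β := by
      obtain ⟨r, hr⟩ := Submonoid.mem_powers_iff _ _ |>.1 (mem_powers_iff_mem_zpowers.2 hig)
      have hr' : g ^ (r % 8) = i := by
        rw [← hr]
        conv_rhs => rw [← Nat.div_add_mod r 8, pow_add, pow_mul, hg8, one_pow, one_mul]
      have hlt : r % 8 < 8 := Nat.mod_lt _ (by norm_num)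
      generalize r % 8 = s at hr' hlt
      have hodd : ∀ s : ℕ, g ^ s = i → (g ^ 4) ^ s = 1 := by
        intro s hs
        rw [← pow_mul, mul_comm, pow_mul, hs, T.i4]
      have h44 : (g ^ 4) ^ 2 = 1 := by rw [← pow_mul]; exact hg8
      interval_cases s
      · exfalso; apply T.i2; rw [← hr']; simp
      · exfalso; apply hg4; simpa using hodd 1 hr'
      · exact ⟨g, hr', hgj, hcg⟩
      · exfalso; apply hg4
        have := hodd 3 hr'
        rwa [show 3 = 2 * 1 + 1 from rfl, pow_succ, pow_mul (g ^ 4), h44, one_pow, one_mul] at this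
      · exfalso; apply T.i2; rw [← hr', ← pow_mul]; exact hg8
      · exfalso; apply hg4
        have := hodd 5 hr'
        rwa [show 5 = 2 * 2 + 1 from rfl, pow_succ, pow_mul (g ^ 4), h44, one_pow, one_mul] at this
      · refine ⟨g ^ 3, by rw [← pow_mul]; exact hr', by rw [← conj_pow, hgj, inv_pow], ?_⟩
        have hgg : g ∈ zpowers (g ^ 3) := by
          refine Subgroup.mem_zpowers_iff.2 ⟨3, ?_⟩
          rw [show (3 : ℤ) = ((3 : ℕ) : ℤ) from rfl, zpow_natCast, ← pow_mul,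
            show 3 * 3 = 8 + 1 from rfl, pow_succ, hg8, one_mul]
        exact (Subgroup.zpowers_le.2 hgg) hcg
      · exfalso; apply hg4
        have := hodd 7 hr'
        rwa [show 7 = 2 * 3 + 1 from rfl, pow_succ, pow_mul (g ^ 4), h44, one_pow, one_mul] at this
    obtain ⟨β, hβ2, hβj, hcβ⟩ := hβ
    obtain ⟨l, hl⟩ := Submonoid.mem_powers_iff _ _ |>.1 (mem_powers_iff_mem_zpowers.2 hcβ)
    rcases Nat.even_or_odd l with he | ho
    · left
      obtain ⟨k, rfl⟩ := he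
      rw [← hl, ← two_mul, pow_mul, hβ2]
      exact Subgroup.npow_mem_zpowers i k
    · right
      exact ⟨β, l, hβ2, hβj, hl.symm, ho⟩

end Cfsg.Agent.Lib.Helper53.Zas
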