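import Cfsg.Agent.Lib.Helper53.Zas.Planes
import Cfsg.Agent.Lib.Helper52.FPF

/-!
# Linearisation of a fixed-point-free action on an abelian group
-/

set_option autoImplicit false
set_option linter.style.haveILetI false
set_option linter.unusedSectionVars false
set_option linter.unusedSimpArgs false

namespace Cfsg.Agent.Lib.Helper53.Zas

variable {G : Type*} [Group G]

theorem FPF.baseChange {F E V₀ : Type*} [Field F] [Field E] [Algebra F E] [AddCommGroup V₀]
    [Module F V₀] [FiniteDimensional F V₀] [Nontrivial V₀] {ρ₀ : G →* Module.End F V₀}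
    (h : FPF ρ₀) :
    ∃ (n : ℕ) (_ : NeZero n) (ρ : G →* Module.End E (Fin n → E)), FPF ρ := by
  classical
  let b := Module.finBasis F V₀
  let Φ : Module.End F V₀ →+* Module.End E (Fin (Module.finrank F V₀) → E) :=
    ((Matrix.toLinAlgEquiv' (R := E) (n := Fin (Module.finrank F V₀))).toAlgHom.toRingHom).comp
      ((algebraMap F E).mapMatrix.comp (LinearMap.toMatrixAlgEquiv b).toAlgHom.toRingHom)
  refine ⟨Module.finrank F V₀, ⟨(Module.finrank_pos (R := F) (M := V₀)).ne'⟩,
    (Φ : Module.End F V₀ →* _).comp ρ₀, ?_⟩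
  intro g hg v hv
  have h1 : LinearMap.ker (ρ₀ g - 1) = ⊥ := by
    rw [LinearMap.ker_eq_bot']
    intro x hx
    apply h g hg
    rw [LinearMap.sub_apply, sub_eq_zero] at hx
    exact hx
  have h2 : IsUnit (ρ₀ g - 1) := (LinearMap.isUnit_iff_ker_eq_bot _).2 h1
  have h3 : IsUnit (Φ (ρ₀ g - 1)) := h2.map Φ
  have h4 := (LinearMap.isUnit_iff_ker_eq_bot _).1 h3
  rw [LinearMap.ker_eq_bot'] at h4
  apply h4
  rw [map_sub, map_one, LinearMap.sub_apply, sub_eq_zero]
  exact hv

theorem exists_fpf_of_add {F E T : Type*} [Field F] [Field E] [Algebra F E] [AddCommGroup T]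
    [Module F T] [FiniteDimensional F T] [Nontrivial T] (fg : G → T →+ T)
    (h1 : ∀ x, fg 1 x = x) (hmul : ∀ g h x, fg (g * h) x = fg g (fg h x))
    (hlin : ∀ (g : G) (c : F) (x : T), fg g (c • x) = c • fg g x)
    (hfpf : ∀ g : G, g ≠ 1 → ∀ x : T, fg g x = x → x = 0) :
    ∃ (n : ℕ) (_ : NeZero n) (ρ : G →* Module.End E (Fin n → E)), FPF ρ := by
  let lg : G → Module.End F T := fun g =>
    { toFun := fg g
      map_add' := (fg g).map_add
      map_smul' := fun c x => hlin g c x }
  have hlg : ∀ (g : G) (x : T), lg g x = fg g x := fun g x => rfl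
  let ρ₀ : G →* Module.End F T :=
    { toFun := lg
      map_one' := by
        apply LinearMap.ext
        intro x
        rw [Module.End.one_apply, hlg, h1]
      map_mul' := by
        intro g h
        apply LinearMap.ext
        intro x
        rw [Module.End.mul_apply, hlg, hlg, hlg, hmul] }
  have hρ₀ : FPF ρ₀ := fun g hg x hx => hfpf g hg x hx
  exact hρ₀.baseChange

theorem zhyp_of_comm {K : Type*} [CommGroup K] [Finite K] [Nontrivial K] [Finite G]
    (φ : G →* MulAut K) (hfpf : ∀ g : G, g ≠ 1 → ∀ k : K, φ g k = k → k = 1) : ZHyp G := by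
  classical
  -- abelian subgroups are cyclic
  have hcyc : ∀ H : Subgroup G, (∀ a ∈ H, ∀ b ∈ H, a * b = b * a) → IsCyclic H := by
    intro H hH
    letI : MulDistribMulAction H K := MulDistribMulAction.compHom K (φ.comp H.subtype)
    apply Cfsg.Agent.Lib.Helper52.isCyclic_of_fpf_comm (A := H) (V := K)
    · intro a ha v hv
      exact hfpf a (fun h => ha (Subtype.ext h)) v hv
    · intro a b
      exact Subtype.ext (hH a a.2 b b.2)
  obtain ⟨r, hr, hrd⟩ := Nat.exists_prime_and_dvd
    (Finite.one_lt_card_iff_nontrivial.2 (inferInstance : Nontrivial K)).ne'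
  haveI : Fact r.Prime := ⟨hr⟩
  let T : AddSubgroup (Additive K) := (nsmulAddMonoidHom (α := Additive K) r).ker
  have hT : ∀ a : Additive K, a ∈ T ↔ r • a = 0 := fun a => Iff.rfl
  have hTr : ∀ x : T, r • x = 0 := fun x => Subtype.ext ((hT x).1 x.2)
  let fg : G → (T →+ T) := fun g =>
    ((MonoidHom.toAdditive (φ g).toMonoidHom).comp T.subtype).codRestrict T (by
      intro x
      have := (hT x).1 x.2
      rw [hT, AddMonoidHom.comp_apply, ← map_nsmul, AddSubgroup.subtype_apply, this, map_zero])
  have hfg : ∀ (g : G) (x : T), ((fg g x : T) : Additive K) =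
      Additive.ofMul (φ g (Additive.toMul (x : Additive K))) := fun g x => rfl
  haveI : Nontrivial T := by
    obtain ⟨k, hk⟩ := exists_prime_orderOf_dvd_card' (G := K) r hrd
    refine ⟨⟨⟨Additive.ofMul k, ?_⟩, 0, ?_⟩⟩
    · rw [hT, ← ofMul_pow, ← hk, pow_orderOf_eq_one]; rfl
    · intro h
      have h1 : Additive.ofMul k = 0 := congrArg Subtype.val h
      have h2 : k = 1 := Additive.ofMul.injective h1
      rw [h2, orderOf_one] at hk
      exact hr.one_lt.ne hk
  haveI : Finite T := inferInstance
  obtain ⟨n, hn, ρ, hρ⟩ := @exists_fpf_of_add G _ (ZMod r) (AlgebraicClosure (ZMod r)) T _ _ _ _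
    (AddCommGroup.zmodModule hTr)
    (@Module.Finite.of_finite (ZMod r) T _ _ (AddCommGroup.zmodModule hTr) _) _ fg
    (by
      intro x
      apply Subtype.ext
      rw [hfg, map_one]
      rfl)
    (by
      intro g h x
      apply Subtype.ext
      rw [hfg, hfg, hfg, map_mul]
      rfl)
    (by
      intro g c x
      exact @ZMod.map_smul r T T (T →+ T) _ _ _ _ (AddCommGroup.zmodModule hTr)
        (AddCommGroup.zmodModule hTr) (fg g) c x)
    (by
      intro g hg x hx
      have h1 : ((fg g x : T) : Additive K) = x := congrArg Subtype.val hx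
      rw [hfg] at h1
      have h2 := hfpf g hg (Additive.toMul (x : Additive K)) (Additive.ofMul.injective h1)
      apply Subtype.ext
      exact Additive.toMul.injective h2)
  haveI : CharP (AlgebraicClosure (ZMod r)) r :=
    charP_of_injective_algebraMap (algebraMap (ZMod r) (AlgebraicClosure (ZMod r))).injective r
  exact hρ.zhyp r hcyc

end Cfsg.Agent.Lib.Helper53.Zas
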