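import Cfsg.Agent.Lib.Helper53.Zas.NoEight
import Cfsg.Agent.Lib.Helper53.Zas.Linearize
import Cfsg.Agent.Lib.Helper52.ZasP1
import Cfsg.Agent.Lib.Helper58.ZasTD
import Cfsg.Agent.Lib.Helper73.ZasP3
import Cfsg.Agent.Lib.Helper96.ZasEnd

/-!
# Zassenhaus: a perfect nontrivial group satisfying `ZHyp` is `SL(2,5)`
-/

set_option autoImplicit false

namespace Cfsg.Agent.Lib.Helper53.Zas

open Subgroup

variable {G : Type*} [Group G]

theorem ZHyp.lift [Finite G] (h : ZHyp G) : Lift G := fun _ _ hw hw' hne =>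
  Cfsg.Agent.Lib.Helper58.Zas.exists_TD_of_three h hw hw' hne

theorem ZHyp.main [Finite G] (h : ZHyp G) (hperf : commutator G = ⊤) [Nontrivial G] :
    Nonempty (G ≃* Matrix.SpecialLinearGroup (Fin 2) (ZMod 5)) := by
  obtain ⟨i, j, d, T⟩ := Cfsg.Agent.Lib.Helper73.ZasP3.exists_TD h hperf
    (fun A _ hA => Cfsg.Agent.Lib.Helper52.ZasP1.central_of_normal_cyclic hperf A hA)
    (fun hp hp2 _ hc hcc => Cfsg.Agent.Lib.Helper52.ZasP1.no_central_odd h hperf hp hp2 hc hcc)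
    (fun hw hw' hne => Cfsg.Agent.Lib.Helper58.Zas.exists_TD_of_three h hw hw' hne)
  exact Cfsg.Agent.Lib.Helper96.zas_endgame h hperf
    (fun i j d T α => h.no_sqrt hperf h.lift T α)
    (fun i j d c T hci hcj => (h.lemmaYZ T hci hcj).imp id (fun ⟨β, _, hβ, _⟩ => ⟨β, hβ⟩))
    (fun z hz M hM h4 => haveI := hM
      Cfsg.Agent.Lib.Helper52.ZasP1.le_of_normal_no_four h hperf hz M h4)
    (fun M hM ho => haveI := hM
      Cfsg.Agent.Lib.Helper52.ZasP1.eq_top_of_odd_index h hperf M ho) T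

end Cfsg.Agent.Lib.Helper53.Zas
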