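import Cfsg.Agent.Lib.Helper53.Zas.Fusion

/-!
# In a perfect group satisfying `ZHyp`, the element `i` of binary tetrahedral data is not a square
-/

set_option autoImplicit false
set_option linter.style.haveILetI false
set_option linter.unusedSectionVars false
set_option linter.unusedSimpArgs false

namespace Cfsg.Agent.Lib.Helper53.Zas

open Subgroup

variable {G : Type*} [Group G] {i j d α : G}

theorem TD.inv' (T : TD i j d) : j⁻¹ * i * j = i⁻¹ := by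
  calc j⁻¹ * i * j = j⁻¹ * (i⁻¹)⁻¹ * j := by rw [inv_inv]
    _ = j⁻¹ * (j * i * j⁻¹)⁻¹ * j := by rw [T.inv]
    _ = i⁻¹ := by group

theorem TD.conj_comm (T : TD i j d) {c : G} (hci : c * i = i * c) :
    (j * c * j⁻¹) * i = i * (j * c * j⁻¹) := by
  have hci' : c * i⁻¹ = i⁻¹ * c := by
    calc c * i⁻¹ = i⁻¹ * (i * c) * i⁻¹ := by group
      _ = i⁻¹ * (c * i) * i⁻¹ := by rw [hci]
      _ = i⁻¹ * c := by group
  calc (j * c * j⁻¹) * i = j * (c * (j⁻¹ * i * j)) * j⁻¹ := by group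
    _ = j * ((j⁻¹ * i * j) * c) * j⁻¹ := by rw [T.inv', hci']
    _ = i * (j * c * j⁻¹) := by group

theorem ZHyp.comm_inverted (h : ZHyp G) (T : TD i j d) {c : G} (hci : c * i = i * c) :
    (c⁻¹ * (j * c * j⁻¹)) * i = i * (c⁻¹ * (j * c * j⁻¹)) ∧
    j * (c⁻¹ * (j * c * j⁻¹)) * j⁻¹ = (c⁻¹ * (j * c * j⁻¹))⁻¹ := by
  constructor
  · have h1 := T.conj_comm hci
    calc (c⁻¹ * (j * c * j⁻¹)) * i = c⁻¹ * ((j * c * j⁻¹) * i) := by group
      _ = c⁻¹ * (i * (j * c * j⁻¹)) := by rw [h1]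
      _ = c⁻¹ * (i * c) * c⁻¹ * (j * c * j⁻¹) := by group
      _ = c⁻¹ * (c * i) * c⁻¹ * (j * c * j⁻¹) := by rw [hci]
      _ = i * (c⁻¹ * (j * c * j⁻¹)) := by group
  · have hz : c * (j * j) = (j * j) * c := by
      rw [← pow_two, T.j2]
      exact h.central T.orderOf_z c
    calc j * (c⁻¹ * (j * c * j⁻¹)) * j⁻¹ = (j * c⁻¹ * j⁻¹) * (((j * j) * c) * (j * j)⁻¹) := by group
      _ = (j * c⁻¹ * j⁻¹) * ((c * (j * j)) * (j * j)⁻¹) := by rw [hz]
      _ = (c⁻¹ * (j * c * j⁻¹))⁻¹ := by group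

theorem ZHyp.exists_inverted_sqrt [Finite G] (h : ZHyp G) (T : TD i j d) (hα : α ^ 2 = i) :
    ∃ β, β ^ 2 = i ∧ j * β * j⁻¹ = β⁻¹ := by
  have hcαi : Commute α i := by rw [← hα]; exact (Commute.refl α).pow_right 2
  obtain ⟨h1, h2⟩ := h.comm_inverted T hcαi.eq
  rcases h.lemmaYZ T h1 h2 with hz | ⟨β, l, hβ, hβj, -, -⟩
  · obtain ⟨s, hs⟩ := (Submonoid.mem_powers_iff _ _).1 (mem_powers_iff_mem_zpowers.2 hz)
    have hj : j * α * j⁻¹ = α * i ^ s := by rw [hs]; group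
    rw [T.pow_mod] at hj
    have hlt : s % 4 < 4 := Nat.mod_lt _ (by norm_num)
    generalize s % 4 = r at hlt hj
    have hsq : i⁻¹ = i * (i ^ r) ^ 2 := by
      have h3 : (j * α * j⁻¹) ^ 2 = i⁻¹ := by rw [conj_pow, hα, T.inv]
      rw [← h3, hj, (hcαi.pow_right r).mul_pow, hα]
    have hbad : i⁻¹ = i → False := by
      intro hh
      apply T.i2
      rw [pow_two]
      nth_rewrite 1 [← hh]
      exact inv_mul_cancel i
    interval_cases r
    · exact (hbad (by simpa using hsq)).elim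
    · exfalso
      rw [pow_one] at hj
      have h5 : (α * j) ^ 2 = 1 := by
        calc (α * j) ^ 2 = α * (j * α * j⁻¹) * (j * j) := by rw [pow_two]; group
          _ = (α * α) * i * (j * j) := by rw [hj]; group
          _ = 1 := by
            rw [← pow_two, ← pow_two, hα, T.j2, ← pow_two, ← pow_add]
            exact T.i4
      have h6 : Commute (α * j) i := by
        by_cases h7 : α * j = 1
        · rw [h7]; exact Commute.one_left i
        · rw [h.eq_of_sq T.orderOf_z h5 h7]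
          exact (Commute.refl i).pow_left 2
      apply T.ne_comm
      have h8 : Commute (α⁻¹ * (α * j)) i := (hcαi.inv_left).mul_left h6
      rw [inv_mul_cancel_left] at h8
      exact h8.eq.symm
    · apply (hbad _).elim
      rw [hsq, ← pow_mul]
      rw [show 2 * 2 = 4 from rfl, T.i4, mul_one]
    · refine ⟨α, hα, ?_⟩
      rw [hj, ← hα, ← pow_mul, ← pow_succ', eq_inv_iff_mul_eq_one, ← pow_succ,
        show 2 * 3 + 1 + 1 = 2 * 4 from rfl, pow_mul, hα, T.i4]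
  · exact ⟨β, hβ, hβj⟩

theorem QD.conj_aj (Q : QD α j) (m : ℕ) : α * (α ^ m * j) * α⁻¹ = α ^ 2 * (α ^ m * j) := by
  have h1 : j * α⁻¹ * j⁻¹ = α := by
    calc j * α⁻¹ * j⁻¹ = (j * α * j⁻¹)⁻¹ := by group
      _ = α := by rw [Q.inv, inv_inv]
  calc α * (α ^ m * j) * α⁻¹ = α * α ^ m * (j * α⁻¹ * j⁻¹) * j := by group
    _ = α * (α ^ m * α) * j := by rw [h1]; group
    _ = α * (α * α ^ m) * j := by rw [← pow_succ, pow_succ']
    _ = α ^ 2 * (α ^ m * j) := by rw [pow_two]; group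

theorem ZHyp.exists_TD_of_weak [Finite G] (h : ZHyp G) (hL : Lift G) (T : TD i j d) {s t : G}
    (hs2 : s ^ 2 = i ^ 2) (hsi : s * i * s⁻¹ = i⁻¹) (hti : t * i * t⁻¹ = s)
    (hts : t * s * t⁻¹ = i * s) : ∃ d₁, TD i s d₁ := by
  have hsis : s * (i * s) = i := by
    calc s * (i * s) = (s * i * s⁻¹) * (s * s) := by group
      _ = i⁻¹ * (i * i) := by rw [hsi, ← pow_two, hs2, pow_two]
      _ = i := by group
  have htis : t * (i * s) * t⁻¹ = i := by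
    calc t * (i * s) * t⁻¹ = (t * i * t⁻¹) * (t * s * t⁻¹) := by group
      _ = i := by rw [hti, hts, hsis]
  have hci : Commute (t ^ 3) i := by
    have h1 : t ^ 3 * i * (t ^ 3)⁻¹ = i := by
      calc t ^ 3 * i * (t ^ 3)⁻¹ = t * (t * (t * i * t⁻¹) * t⁻¹) * t⁻¹ := by
            rw [pow_succ, pow_two]; group
        _ = i := by rw [hti, hts, htis]
    calc t ^ 3 * i = (t ^ 3 * i * (t ^ 3)⁻¹) * t ^ 3 := by group
      _ = i * t ^ 3 := by rw [h1]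
  have hcs : Commute (t ^ 3) s := by
    have h1 : t ^ 3 * s * (t ^ 3)⁻¹ = s := by
      calc t ^ 3 * s * (t ^ 3)⁻¹ = t * (t * (t * s * t⁻¹) * t⁻¹) * t⁻¹ := by
            rw [pow_succ, pow_two]; group
        _ = s := by rw [hts, htis, hti]
    calc t ^ 3 * s = (t ^ 3 * s * (t ^ 3)⁻¹) * t ^ 3 := by group
      _ = s * t ^ 3 := by rw [h1]
  have hm0 : 0 < orderOf (t ^ 3) := orderOf_pos _
  have h3 : ¬ 3 ∣ orderOf (t ^ 3) := by
    intro hdvd
    have h4 := orderOf_pow_orderOf_div hm0.ne' hdvd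
    exact h.no_three hL T h4 (hci.pow_left _).eq
  obtain ⟨k, hk⟩ : ∃ k : ℕ, orderOf (t ^ 3) ∣ 3 * k + 1 := by
    have h5 : orderOf (t ^ 3) % 3 = 1 ∨ orderOf (t ^ 3) % 3 = 2 := by omega
    rcases h5 with h5 | h5
    · exact ⟨orderOf (t ^ 3) / 3, ⟨1, by omega⟩⟩
    · exact ⟨(2 * orderOf (t ^ 3)) / 3, ⟨2, by omega⟩⟩
  have hd : t ^ (3 * k + 1) = (t ^ 3) ^ k * t := by rw [pow_succ, pow_mul]
  refine ⟨t ^ (3 * k + 1), T.i4, T.i2, hs2, hsi, ?_, ?_, ?_⟩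
  · rw [← pow_mul, mul_comm, pow_mul]
    exact orderOf_dvd_iff_pow_eq_one.1 hk
  · rw [hd]
    calc (t ^ 3) ^ k * t * i * ((t ^ 3) ^ k * t)⁻¹ = (t ^ 3) ^ k * (t * i * t⁻¹) * ((t ^ 3) ^ k)⁻¹ := by
          group
      _ = s := by rw [hti, (hcs.pow_left k).eq, mul_inv_cancel_right]
  · rw [hd]
    calc (t ^ 3) ^ k * t * s * ((t ^ 3) ^ k * t)⁻¹ = (t ^ 3) ^ k * (t * s * t⁻¹) * ((t ^ 3) ^ k)⁻¹ := by
          group
      _ = i * s := by
        rw [hts, ((hci.pow_left k).mul_right (hcs.pow_left k)).eq, mul_inv_cancel_right]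

theorem ZHyp.no_sqrt [Finite G] (h : ZHyp G) (hperf : commutator G = ⊤) (hL : Lift G)
    (T : TD i j d) (α₀ : G) : α₀ ^ 2 ≠ i := by
  intro hα₀
  obtain ⟨α, hα, hαj⟩ := h.exists_inverted_sqrt T hα₀
  obtain ⟨m, g, hm, hg⟩ := h.fusion hperf T hα hαj
  have Q := T.qd hα hαj
  have hcαi : Commute α i := by rw [← hα]; exact (Commute.refl α).pow_right 2
  obtain ⟨a, ha⟩ : ∃ a, a = α ^ m * j := ⟨_, rfl⟩
  rw [← ha] at hg
  obtain ⟨k, hk⟩ : ∃ k, k = g⁻¹ := ⟨_, rfl⟩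
  have hka : k * i * k⁻¹ = a := by rw [hk, ← hg]; group
  have hka' : k⁻¹ * a * k = i := by rw [← hka]; group
  have ha2 : a ^ 2 = i ^ 2 := by rw [ha, Q.sq_aj, ← hα, ← pow_mul]
  have hai : a * i * a⁻¹ = i⁻¹ := by
    calc a * i * a⁻¹ = α ^ m * (j * i * j⁻¹) * (α ^ m)⁻¹ := by rw [ha]; group
      _ = α ^ m * i⁻¹ * (α ^ m)⁻¹ := by rw [T.inv]
      _ = i⁻¹ := by rw [((hcαi.pow_left m).inv_right).eq, mul_inv_cancel_right]
  have hia : i * a * i⁻¹ = a⁻¹ := by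
    have hai' : a * i = i⁻¹ * a := by rw [← hai]; group
    calc i * a * i⁻¹ = i * (a * i) * i⁻¹ * i⁻¹ := by group
      _ = i * (i⁻¹ * a) * i⁻¹ * i⁻¹ := by rw [hai']
      _ = a * (i * i)⁻¹ := by group
      _ = a * (a * a)⁻¹ := by rw [← pow_two, ← pow_two, ha2]
      _ = a⁻¹ := by group
  obtain ⟨s, hs⟩ : ∃ s, s = k⁻¹ * i * k := ⟨_, rfl⟩
  have hs2 : s ^ 2 = i ^ 2 := by
    have h1 : s ^ 2 = k⁻¹ * i ^ 2 * k := by rw [hs, pow_two, pow_two]; group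
    rw [h1, h.central T.orderOf_z k⁻¹, mul_assoc, inv_mul_cancel, mul_one]
  have hsi : s * i * s⁻¹ = i⁻¹ := by
    calc s * i * s⁻¹ = (k⁻¹ * i * k) * (k⁻¹ * a * k) * (k⁻¹ * i * k)⁻¹ := by rw [hka', hs]
      _ = k⁻¹ * (i * a * i⁻¹) * k := by group
      _ = (k⁻¹ * a * k)⁻¹ := by rw [hia]; group
      _ = i⁻¹ := by rw [hka']
  have hci : (s * j⁻¹) * i = i * (s * j⁻¹) := by
    calc (s * j⁻¹) * i = s * (j⁻¹ * i * j) * j⁻¹ := by group
      _ = (s * i * s⁻¹)⁻¹ * s * j⁻¹ := by rw [T.inv']; group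
      _ = i * (s * j⁻¹) := by rw [hsi]; group
  have hcj : j * (s * j⁻¹) * j⁻¹ = (s * j⁻¹)⁻¹ := by
    have hjj : j * j = s * s := by rw [← pow_two, ← pow_two, hs2, T.j2]
    calc j * (s * j⁻¹) * j⁻¹ = j * s * (j * j)⁻¹ := by group
      _ = j * s * (s * s)⁻¹ := by rw [hjj]
      _ = (s * j⁻¹)⁻¹ := by group
  have hαcl : α ∈ closure {α, j} := subset_closure (by simp)
  have hjcl : j ∈ closure {α, j} := subset_closure (by simp)
  rcases h.lemmaYZ T hci hcj with hz | ⟨β, l, hβ, hβj, hcβ, hl⟩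
  · obtain ⟨r, hr⟩ := (Submonoid.mem_powers_iff _ _).1 (mem_powers_iff_mem_zpowers.2 hz)
    have hjs : j = (i ^ r)⁻¹ * s := by rw [hr]; group
    have T' := T.conj k
    have e2 : k * j * k⁻¹ = (a ^ r)⁻¹ * i := by
      calc k * j * k⁻¹ = k * ((i ^ r)⁻¹ * s) * k⁻¹ := by rw [← hjs]
        _ = (k * i ^ r * k⁻¹)⁻¹ * (k * s * k⁻¹) := by group
        _ = (a ^ r)⁻¹ * i := by rw [← conj_pow, hka, hs]; group
    rw [hka, e2, ha] at T'
    refine h.lemmaQ T hα hαj hm ?_ T'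
    refine mul_mem (inv_mem (pow_mem (mul_mem (pow_mem hαcl m) hjcl) r)) ?_
    rw [← hα]
    exact pow_mem hαcl 2
  · have Q' := T.qd hβ hβj
    have hcβi : Commute β i := by rw [← hβ]; exact (Commute.refl β).pow_right 2
    have hsβ : s = β ^ l * j := by rw [← hcβ]; group
    have hγs : (k⁻¹ * α * k) * s * (k⁻¹ * α * k)⁻¹ = s := by
      calc (k⁻¹ * α * k) * s * (k⁻¹ * α * k)⁻¹ = k⁻¹ * (α * i * α⁻¹) * k := by rw [hs]; group
        _ = s := by rw [hcαi.eq, mul_inv_cancel_right, hs]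
    have hγi : (k⁻¹ * α * k) * i * (k⁻¹ * α * k)⁻¹ = s * i := by
      calc (k⁻¹ * α * k) * i * (k⁻¹ * α * k)⁻¹ = k⁻¹ * (α * (k * i * k⁻¹) * α⁻¹) * k := by group
        _ = k⁻¹ * (i * a) * k := by rw [hka, ha, Q.conj_aj, hα]
        _ = (k⁻¹ * i * k) * (k⁻¹ * a * k) := by group
        _ = s * i := by rw [hka', hs]
    have hβs : β * s * β⁻¹ = i * s := by rw [hsβ, Q'.conj_aj, hβ]
    have hti : (β * (k⁻¹ * α * k)) * i * (β * (k⁻¹ * α * k))⁻¹ = s := by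
      calc (β * (k⁻¹ * α * k)) * i * (β * (k⁻¹ * α * k))⁻¹
          = β * ((k⁻¹ * α * k) * i * (k⁻¹ * α * k)⁻¹) * β⁻¹ := by group
        _ = (β * s * β⁻¹) * (β * i * β⁻¹) := by rw [hγi]; group
        _ = i * s * i := by rw [hβs, hcβi.eq, mul_inv_cancel_right]
        _ = i * (s * i * s⁻¹) * s := by group
        _ = s := by rw [hsi]; group
    have hts : (β * (k⁻¹ * α * k)) * s * (β * (k⁻¹ * α * k))⁻¹ = i * s := by
      calc (β * (k⁻¹ * α * k)) * s * (β * (k⁻¹ * α * k))⁻¹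
          = β * ((k⁻¹ * α * k) * s * (k⁻¹ * α * k)⁻¹) * β⁻¹ := by group
        _ = i * s := by rw [hγs, hβs]
    obtain ⟨d₁, T₁⟩ := h.exists_TD_of_weak hL T hs2 hsi hti hts
    have T₂ := T₁.rot
    rw [hsβ] at T₂
    refine h.lemmaQ T hβ hβj hl ?_ T₂
    have hβcl : β ∈ closure {β, j} := subset_closure (by simp)
    have hjcl' : j ∈ closure {β, j} := subset_closure (by simp)
    rw [← hβ]
    exact mul_mem (pow_mem hβcl 2) (mul_mem (pow_mem hβcl l) hjcl')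

end Cfsg.Agent.Lib.Helper53.Zas
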