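import Cfsg.Agent.Lib.Helper53.Zas.Hyp

/-!
# Invariant planes for fixed-point-free linear representations
-/

set_option autoImplicit false
set_option linter.style.haveILetI false
set_option linter.unusedSectionVars false
set_option linter.unusedSimpArgs false

namespace Cfsg.Agent.Lib.Helper53.Zas

variable {G : Type*} [Group G] [Finite G]
variable {E V : Type*} [Field E] [AddCommGroup V] [Module E V]
variable {ρ : G →* Module.End E V}

theorem rho_pow_eigen {y : G} {x : V} {c : E} (h : ρ y x = c • x) (k : ℕ) :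
    ρ (y ^ k) x = c ^ k • x := by
  induction k with
  | zero => rw [pow_zero, pow_zero, rho_one, one_smul]
  | succ k ih => rw [pow_succ, rho_mul, h, map_smul, ih, smul_smul, pow_succ, mul_comm]

theorem linInd_pair {x v : V} (hx : x ≠ 0) (hv : ∀ c : E, v ≠ c • x) :
    LinearIndependent E ![x, v] := by
  rw [LinearIndependent.pair_iff]
  intro s t hst
  by_cases ht : t = 0
  · subst ht
    rw [zero_smul, add_zero] at hst
    exact ⟨(smul_eq_zero.1 hst).resolve_right hx, rfl⟩
  · exfalso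
    apply hv (-(t⁻¹ * s))
    have h1 : t • v = -(s • x) := eq_neg_of_add_eq_zero_right hst
    have h2 : v = t⁻¹ • (t • v) := by rw [smul_smul, inv_mul_cancel₀ ht, one_smul]
    rw [h2, h1, smul_neg, smul_smul, neg_smul]

variable [IsAlgClosed E] [FiniteDimensional E V] [Nontrivial V]

theorem exists_eigen (g : G) : ∃ (c : E) (x : V), x ≠ 0 ∧ ρ g x = c • x := by
  obtain ⟨c, hc⟩ := Module.End.exists_eigenvalue (ρ g)
  obtain ⟨x, hx⟩ := hc.exists_hasEigenvector
  exact ⟨c, x, hx.2, hx.apply_eq_smul⟩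

theorem FPF.planeB (r : ℕ) [Fact r.Prime] [CharP E r] (h : FPF ρ) (y j : G) (k : ℕ)
    (hj : orderOf j = 4) (hyj : y * j = j * y ^ k) (hne : y * j ≠ j * y) :
    ∃ X : Subgroup G, y ∈ X ∧ j ∈ X ∧ Rig X ∧ ∀ Y : Subgroup G, Y ≤ X → Alt Y := by
  obtain ⟨c, x, hx, hc⟩ := exists_eigen (ρ := ρ) y
  set v : V := ρ j x with hv
  have hj4 : j ^ 4 = 1 := by rw [← hj]; exact pow_orderOf_eq_one j
  have hj2 : j ^ 2 ≠ 1 := by
    intro h2
    have := orderOf_dvd_of_pow_eq_one h2
    rw [hj] at this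
    omega
  have hyv : ρ y v = c ^ k • v := by
    rw [hv, ← rho_mul, hyj, rho_mul, rho_pow_eigen hc, map_smul]
  have hjv : ρ j v = -x := by
    rw [hv, ← rho_mul, ← pow_two]
    exact h.involution (by rw [← pow_mul]; exact hj4) hj2 x
  have hli : LinearIndependent E ![x, v] := by
    apply linInd_pair hx
    intro m hm
    apply hne
    apply h.eq_of_apply hx
    rw [rho_mul, rho_mul, hc, map_smul, ← hv, hm, map_smul, hc, smul_smul, smul_smul, mul_comm]
  have hxU : x ∈ Submodule.span E {x, v} := Submodule.subset_span (by simp)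
  have hvU : v ∈ Submodule.span E {x, v} := Submodule.subset_span (by simp)
  refine ⟨stab ρ (Submodule.span E {x, v}), ?_, ?_, h.rig _, fun Y hY => plane r h x v hli Y hY⟩
  · apply mem_stab_span
    · rw [hc]; exact Submodule.smul_mem _ _ hxU
    · rw [hyv]; exact Submodule.smul_mem _ _ hvU
  · apply mem_stab_span
    · exact hvU
    · rw [hjv]; exact Submodule.neg_mem _ hxU

theorem FPF.planeA (r : ℕ) [Fact r.Prime] [CharP E r] (h : FPF ρ) (w w' : G)
    (hw : w ^ 3 = 1) (hw' : w' ^ 3 = 1) (hne : w * w' ≠ w' * w) :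
    ∃ X : Subgroup G, w ∈ X ∧ w' ∈ X ∧ Rig X ∧ ∀ Y : Subgroup G, Y ≤ X → Alt Y := by
  have hw1 : w ≠ 1 := by rintro rfl; simp at hne
  have hw'1 : w' ≠ 1 := by rintro rfl; simp at hne
  obtain ⟨c, x, hx, hc⟩ := exists_eigen (ρ := ρ) (w * w')
  set v : V := ρ w' x with hv
  have hc0 : c ≠ 0 := by
    rintro rfl
    rw [zero_smul] at hc
    apply hx
    apply rho_injective ρ (w * w')
    rw [hc, map_zero]
  have hwv : ρ w v = c • x := by rw [hv, ← rho_mul, hc]
  have hw'v : ρ w' v = -v - x := by rw [hv]; exact h.three hw' hw'1 x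
  -- `w x`
  have hwx : ρ w x = -x - c⁻¹ • v := by
    have h1 : ρ w (ρ w v) = -ρ w v - v := h.three hw hw1 v
    rw [hwv, map_smul] at h1
    have h2 : ρ w x = c⁻¹ • (c • ρ w x) := by rw [smul_smul, inv_mul_cancel₀ hc0, one_smul]
    rw [h2, h1, smul_sub, smul_neg, smul_smul, inv_mul_cancel₀ hc0, one_smul]
  have hli : LinearIndependent E ![x, v] := by
    apply linInd_pair hx
    intro m hm
    apply hne
    apply h.eq_of_apply hx
    have h3 : ρ w x = (-1 - c⁻¹ * m) • x := by
      rw [hwx, hm, smul_smul, sub_smul, neg_smul, one_smul]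
    rw [rho_mul, rho_mul, ← hv, hm, map_smul, h3, map_smul, ← hv, hm, smul_smul, smul_smul,
      mul_comm]
  have hxU : x ∈ Submodule.span E {x, v} := Submodule.subset_span (by simp)
  have hvU : v ∈ Submodule.span E {x, v} := Submodule.subset_span (by simp)
  refine ⟨stab ρ (Submodule.span E {x, v}), ?_, ?_, h.rig _, fun Y hY => plane r h x v hli Y hY⟩
  · apply mem_stab_span
    · rw [hwx]
      exact Submodule.sub_mem _ (Submodule.neg_mem _ hxU) (Submodule.smul_mem _ _ hvU)
    · rw [hwv]; exact Submodule.smul_mem _ _ hxU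
  · apply mem_stab_span
    · exact hvU
    · rw [hw'v]
      exact Submodule.sub_mem _ (Submodule.neg_mem _ hvU) hxU

theorem FPF.inv_unique (h : FPF ρ) (s t : G) (hs : orderOf s = 2) (ht : orderOf t = 2) :
    s = t := by
  obtain ⟨x, hx⟩ := exists_ne (0 : V)
  apply h.eq_of_apply hx
  have hs2 : s ^ 2 = 1 := by rw [← hs]; exact pow_orderOf_eq_one s
  have ht2 : t ^ 2 = 1 := by rw [← ht]; exact pow_orderOf_eq_one t
  have hs1 : s ≠ 1 := by rintro rfl; rw [orderOf_one] at hs; omega
  have ht1 : t ≠ 1 := by rintro rfl; rw [orderOf_one] at ht; omega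
  rw [h.involution hs2 hs1, h.involution ht2 ht1]

theorem FPF.zhyp (r : ℕ) [Fact r.Prime] [CharP E r] (h : FPF ρ)
    (hcyc : ∀ H : Subgroup G, (∀ a ∈ H, ∀ b ∈ H, a * b = b * a) → IsCyclic H) : ZHyp G where
  cyc := hcyc
  inv_unique := h.inv_unique
  planeA := h.planeA r
  planeB := h.planeB r

end Cfsg.Agent.Lib.Helper53.Zas
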