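import Cfsg.Agent.Lib.Helper53.Zas.Dicyclic

/-!
# The Sylow 2-subgroup containing a generalized quaternion group of order sixteen
-/

set_option autoImplicit false
set_option linter.style.haveILetI false
set_option linter.unusedSectionVars false
set_option linter.unusedSimpArgs false

namespace Cfsg.Agent.Lib.Helper53.Zas

open Subgroup

variable {G : Type*} [Group G] {i j d α : G}

theorem ZHyp.sylow_nf [Finite G] (h : ZHyp G) (T : TD i j d) (hα : α ^ 2 = i)
    (hαj : j * α * j⁻¹ = α⁻¹) (P : Sylow 2 G) (hαP : α ∈ P) (hjP : j ∈ P) :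
    ∀ x ∈ P, ∃ ε, NF α j ε x := by
  have Q := T.qd hα hαj
  have hiα : i ∈ zpowers α := by rw [← hα]; exact npow_mem_zpowers α 2
  rcases Cfsg.Agent.Lib.Helper25.sylow_cyclic_or_quaternion_of_key h.key0 2 P with
    hc | ⟨-, n, ⟨e⟩⟩
  · exfalso
    exact Q.ne_comm (Cfsg.Agent.Lib.Helper66.commute_of_isCyclic (P : Subgroup G) hc hjP hαP).eq
  · haveI : NeZero (2 * 2 ^ n) := ⟨by positivity⟩
    set A : (P : Subgroup G) := e.symm (QuaternionGroup.a 1) with hA
    have ha : ∀ k : ZMod (2 * 2 ^ n), ((e.symm (QuaternionGroup.a k) : (P : Subgroup G)) : G) ∈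
        zpowers (A : G) := by
      intro k
      have h1 : (QuaternionGroup.a k : QuaternionGroup (2 ^ n)) =
          (QuaternionGroup.a 1) ^ k.val := by
        rw [QuaternionGroup.a_one_pow, ZMod.natCast_zmod_val]
      rw [h1, map_pow, ← hA, Subgroup.coe_pow]
      exact npow_mem_zpowers _ _
    have hback : ∀ (x : G) (hx : x ∈ P), ((e.symm (e ⟨x, hx⟩) : (P : Subgroup G)) : G) = x := by
      intro x hx
      rw [MulEquiv.symm_apply_apply]
    -- `α` is a power of `A`
    have hαA : α ∈ zpowers (A : G) := by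
      rcases hq : e ⟨α, hαP⟩ with k | k
      · rw [← hback α hαP, hq]
        exact ha k
      · exfalso
        apply Q.a4
        have h1 : (e ⟨α, hαP⟩) ^ 4 = 1 := by rw [hq, QuaternionGroup.xa_pow_four]
        rw [← map_pow] at h1
        have h2 := (MulEquiv.map_eq_one_iff e).1 h1
        exact congrArg Subtype.val h2
    obtain ⟨l, hl⟩ : ∃ l, e ⟨j, hjP⟩ = QuaternionGroup.xa l := by
      rcases hq : e ⟨j, hjP⟩ with k | k
      · exfalso
        have h1 : j ∈ zpowers (A : G) := by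
          rw [← hback j hjP, hq]
          exact ha k
        obtain ⟨a, ha'⟩ := mem_zpowers_iff.1 h1
        obtain ⟨b, hb'⟩ := mem_zpowers_iff.1 hαA
        apply Q.ne_comm
        rw [← ha', ← hb']
        exact ((Commute.refl (A : G)).zpow_zpow a b).eq
      · exact ⟨k, rfl⟩
    have hinvA : j * (A : G) * j⁻¹ = (A : G)⁻¹ := by
      have h1 : (QuaternionGroup.a 1 : QuaternionGroup (2 ^ n))⁻¹ = QuaternionGroup.a (-1) := by
        apply inv_eq_of_mul_eq_one_right
        rw [QuaternionGroup.a_mul_a, add_neg_cancel, QuaternionGroup.a_zero]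
      have h2 : e (⟨j, hjP⟩ * A) = e (A⁻¹ * ⟨j, hjP⟩) := by
        rw [map_mul, map_mul, map_inv, hl, hA, MulEquiv.apply_symm_apply, h1,
          QuaternionGroup.xa_mul_a, QuaternionGroup.a_mul_xa, sub_neg_eq_add]
      have h3 := congrArg Subtype.val (e.injective h2)
      simp only [Subgroup.coe_mul, Subgroup.coe_inv] at h3
      rw [h3]
      group
    have hA8 : (A : G) ^ 8 = 1 := h.lemmaY T hinvA ((zpowers_le.2 hαA) hiα)
    have hAα : (A : G) ∈ zpowers α := by
      apply mem_zpowers_of_orderOf_dvd hαA (Subgroup.mem_zpowers _)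
      rw [Q.orderOf_a]
      exact orderOf_dvd_of_pow_eq_one hA8
    have hpow : ∀ x : G, x ∈ zpowers (A : G) → ∃ m : ℕ, x = α ^ m := by
      intro x hx
      have h1 : x ∈ zpowers α := (zpowers_le.2 hAα) hx
      obtain ⟨m, hm⟩ := (Submonoid.mem_powers_iff _ _).1 (mem_powers_iff_mem_zpowers.2 h1)
      exact ⟨m, hm.symm⟩
    intro x hx
    rcases hq : e ⟨x, hx⟩ with k | k
    · obtain ⟨m, hm⟩ := hpow x (by rw [← hback x hx, hq]; exact ha k)
      exact ⟨m, m, rfl, Or.inl hm⟩
    · have h1 : x * j ∈ zpowers (A : G) := by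
        have h2 : e (⟨x, hx⟩ * ⟨j, hjP⟩) = QuaternionGroup.a (((2 ^ n : ℕ) : ZMod (2 * 2 ^ n)) + l - k) := by
          rw [map_mul, hq, hl, QuaternionGroup.xa_mul_xa]
        have h3 : ((e.symm (e (⟨x, hx⟩ * ⟨j, hjP⟩)) : (P : Subgroup G)) : G) = x * j := by
          rw [MulEquiv.symm_apply_apply]
          rfl
        rw [← h3, h2]
        exact ha _
      obtain ⟨m, hm⟩ := hpow _ h1
      have h4 : NF α j m (x * j) := ⟨m, rfl, Or.inl hm⟩
      have h5 : NF α j 0 j⁻¹ := Q.inv' ⟨0, rfl, Or.inr (by simp)⟩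
      have h6 := Q.mul h4 h5
      rw [mul_inv_cancel_right] at h6
      exact ⟨_, h6⟩

end Cfsg.Agent.Lib.Helper53.Zas
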